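import Cfsg.Agent.BZ.A.Defs2
import Cfsg.Agent.RC.A.Cell
import Cfsg.Agent.RC.A.Tw
import Cfsg.Agent.H614.GU.FldU

/-!
# BZ, type A, the prime `2`: the cells (helper57)

* `C2.lc_of` : the cell from a tower over the extension field and the reduction step; `boxC2`.
-/

set_option autoImplicit false

namespace Cfsg.Agent.BZ.A

open Cfsg Module
open Cfsg.Agent.H577.GLB.Std Cfsg.Agent.H614.GLn.RSt Cfsg.Agent.H615.GU Cfsg.Agent.H623.GU Cfsg.Agent.H112.GLB
open Cfsg.Agent.H794.EM (vz vz_mul)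
open Cfsg.Agent.H624.Sl (scl jj nrm)
open Cfsg.Agent.H166.GUC Cfsg.Agent.H901.Sl Cfsg.Agent.H614.GU
open Cfsg.Agent.RC.A (bb Amb mu mem_mu boxA)
open Cfsg.Agent.RC.A.Cel (exists_lift cast_one dvd_pow two_pow p_ne)
open scoped MatrixGroups

namespace C2

theorem vz_co {p k : ℕ} {T : ℤ} (hT : 2 ≤ |T|) (h1 : (p : ℤ) ∣ T - 1) (hk : ¬ p ∣ k) : vz p (T ^ k - 1) = vz p (T - 1) := by
  have h2 := pow_sub_one_ne_zero hT (Nat.pos_of_ne_zero fun h : k = 0 => hk (h ▸ dvd_zero p))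
  rw [← geom_sum_mul] at h2 ⊢
  rw [vz_mul (left_ne_zero_of_mul h2) (right_ne_zero_of_mul h2), vz, Nat.factorization_eq_zero_of_not_dvd fun h => hk ?_, zero_add]
  have h3 := (ZMod.intCast_zmod_eq_zero_iff_dvd _ p).2 (Int.natCast_dvd.2 h)
  simpa only [Int.cast_sum, Int.cast_pow, cast_one h1, one_pow, Finset.sum_const, Finset.card_range, nsmul_one,
    ZMod.natCast_eq_zero_iff] using h3

variable {F K : Type} [Field F] [Field K] [Algebra F K] {θ : K →*₀ ℂ} {Q : ℤ} {M : ℕ} [NeZero M] {N p : ℕ}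
  {G : ℕ → Type} [∀ n, Group (G n)] [∀ n, Finite (G n)] {δ : ZMod M} {E : Type} [Field E] [Algebra E K]

theorem nrm_one [Finite E] [Algebra F E] [IsScalarTower F E K] (hE : finrank F E = 1) (y : Eˣ) :
    Units.map (algebraMap F K).toMonoidHom (nrm F E y * 1) = Units.map (algebraMap E K).toMonoidHom y := Units.ext (by
  rw [mul_one]
  change algebraMap F K (Algebra.norm F (y : E)) = algebraMap E K y
  rw [IsScalarTower.algebraMap_apply F E K, FiniteField.algebraMap_norm_eq_pow_sum, hE, Finset.sum_range_one, pow_zero, pow_one])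

/-- the cell from a tower over the extension field -/
theorem lc_of (A : Amb F K θ Q M N p G) (hp : p.Prime) (h1 : (p : ℤ) ∣ Q - 1) {s k f : ℕ} (hf : f = p ^ s) (hk : ¬ p ∣ k)
    (hper : perZ Q M δ = f * k) (hper' : perZ (Q ^ f) M δ = k) {G₁ : ℕ → Type} [∀ n, Group (G₁ n)] [∀ n, Finite (G₁ n)]
    (A₁ : Amb E K θ (Q ^ f) M k p G₁) (hsc : ∀ y : Eˣ, y ^ (Q ^ f - 1) = 1 → scl k y ∈ (A₁.ρ k).range)
    (hst : ∀ (l n : ℕ) (hl : l ≤ N) (hn : n ≤ N), l + f * k = n → ∃ (j : G₁ k × G l →* G n) (u : G n), Function.Injective j ∧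
      (∃ a : ℕ, orderOf u = p ^ a) ∧ j.range = Subgroup.centralizer ({u} : Set (G n)) ∧
      Val (A.t.R n hn) (A₁.t.R k le_rfl) (A.t.R l hl) j u ∧ (f = 1 → ∀ x, A.d n (j (x, 1)) = A₁.d k x)) : Nonempty (LC A δ) := by
  have := A.cF.finK
  have hQ := A.ctx.two
  have hk0 : 0 < k := Nat.pos_of_ne_zero fun h => hk (h ▸ dvd_zero p)
  have hf0 : 0 < f := hf ▸ pow_pos hp.pos s
  have hb : bb Q M p δ = vz p (Q ^ f - 1) := by rw [bb, hper, pow_mul, vz_co (two_pow hQ hf0) (dvd_pow h1 f) hk]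
  have hd : ((p ^ bb Q M p δ : ℕ) : ℤ) ∣ Q ^ f - 1 := Int.natCast_dvd.2 (hb ▸ Nat.ordProj_dvd _ _)
  let ι : Eˣ →* Kˣ := Units.map (algebraMap E K).toMonoidHom
  have hι : Function.Injective ι := Units.map_injective (algebraMap E K).injective
  have hmu : ∀ y : mu Kˣ (p ^ bb Q M p δ), y.1 ^ (Q ^ f - 1) = 1 := fun y => by
    obtain ⟨c, hc⟩ := hd
    rw [hc, zpow_mul, zpow_natCast, mem_mu.1 y.2, one_zpow]
  obtain ⟨c, hc⟩ := exists_lift hι (mu Kˣ (p ^ bb Q M p δ)).subtype fun y =>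
    (A₁.dsur k hk0 y.1 (hmu y)).elim fun g hg => ⟨_, hg⟩
  obtain ⟨σ, hσ⟩ := exists_lift (A₁.inj k) ((Units.map (Matrix.scalar (Fin k)).toMonoidHom).comp c) fun y =>
    hsc (c y) (hι (by rw [map_zpow, hc, map_one]; exact hmu y))
  replace hσ : ∀ y, A₁.ρ k (σ y) = scl k (c y) := hσ
  obtain ⟨θ₀, h0⟩ := exists_cusp hk0 (A₁.t.R k le_rfl) (A₁.t.bij k k le_rfl le_rfl) hper'
  have h2 : Nat.card (mu Kˣ (p ^ bb Q M p δ)) = p ^ bb Q M p δ := by
    rw [mu, IsCyclic.card_powMonoidHom_ker, A.ctx.card,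
      Nat.gcd_eq_right (Int.natCast_dvd_natCast.1 (hd.trans (pow_one (Q ^ f) ▸ A₁.ctx.dvd 1 one_pos hk0)))]
  have h3 : Function.Injective σ := (injective_iff_map_eq_one σ).2 fun y h => by
    have := A₁.cF.finF
    have h4 := orderOf_scl hk0 (c y)
    rw [← hσ, h, map_one, orderOf_one, eq_comm, orderOf_eq_one_iff] at h4
    exact Subtype.ext ((hc y).symm.trans ((congrArg ι h4).trans (map_one ι)))
  refine ⟨{
    X := G₁ k
    f := f
    k := k
    R₁ := A₁.t.R k le_rfl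
    θ₀ := θ₀
    Zc := σ.range
    fpos := hf0
    kpos := hk0
    per := hper
    per' := hper'
    gr := A₁.t.gr k le_rfl
    cusp := h0
    cen := ?_
    card := (Nat.card_congr (MonoidHom.ofInjective h3).toEquiv).symm.trans h2
    step := fun l n hl hn hln => ?_ }⟩
  · have := A₁.cF.finF
    rintro _ ⟨y, rfl⟩
    exact Subgroup.mem_center_iff.2 fun x => A₁.inj k (by rw [map_mul, map_mul, hσ, H623.GU.scl_comm])
  obtain ⟨j, u, h4, h5, h6, h7, h8⟩ := hst l n hl hn hln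
  refine ⟨j, u, h4, h5, h6, h7, fun h => ?_⟩
  have h9 : f = 1 := by
    rcases s with _ | s
    · rw [hf, pow_zero]
    · exact (h (hper ▸ (hf ▸ dvd_pow_self p s.succ_ne_zero : p ∣ f).mul_right k)).elim
  obtain ⟨y, hy⟩ := IsCyclic.exists_ofOrder_eq_natCard (α := mu Kˣ (p ^ bb Q M p δ))
  have h10 : A₁.d k (σ y) = y.1 ^ k := Units.ext (by
    change algebraMap E K (A₁.ρ k (σ y)).1.det = _
    rw [hσ, ← show ι (c y) = y.1 from hc y]
    change algebraMap E K (Matrix.scalar (Fin k) (c y : E)).det = algebraMap E K (c y) ^ k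
    rw [Matrix.scalar_apply, Matrix.det_diagonal, Finset.prod_const, Finset.card_univ, Fintype.card_fin, map_pow])
  rw [h2, ← Subgroup.orderOf_coe] at hy
  exact ⟨σ y, ⟨y, rfl⟩, by rw [h8 h9, h10, Nat.Coprime.orderOf_pow (by rw [hy]; exact (hp.coprime_iff_not_dvd.2 hk).pow_left _), hy, hb, h9, pow_one]⟩

end C2

open C2

/-- **The cells.** -/
theorem boxC2 : BoxC2 := by
  intro F K _ _ _ _ θ Q M _ N hQo δ _ hN
  have hp := Nat.prime_two
  have h1 : ((2 : ℕ) : ℤ) ∣ Q - 1 := (hQo.sub_odd odd_one).two_dvd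
  have hu : IsUnit (Q : ZMod 2) := cast_one h1 ▸ isUnit_one
  have key : IsUnit (Q : ZMod M) → ∃ s k f : ℕ, f = 2 ^ s ∧ f = orderOf (Q : ZMod 2) * 2 ^ s ∧ ¬ 2 ∣ k ∧ 0 < k ∧ f * k ≤ N ∧ f ≤ N ∧
      perZ Q M δ = f * k ∧ perZ (Q ^ f) M δ = k := fun h => by
    obtain ⟨s, k, h3, h4, h5, h6, -⟩ := H157.GLB.exists_split hp h hu δ
    rw [eD, cast_one h1, one_pow, orderOf_one, one_mul] at h3
    rw [cast_one h1, orderOf_one] at h6 ⊢
    exact ⟨s, k, _, one_mul _, rfl, h4, h5, h3 ▸ hN, (Nat.le_mul_of_pos_right _ h5).trans (h3 ▸ hN), h3, h6⟩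
  refine ⟨fun hQ A hρ => ?_, fun q hF hQ A hρ => ?_⟩
  · obtain ⟨s, k, f, hf, hf', hk, hk0, h2, h3, h4, h5⟩ := key A.ctx.unit
    have hf0 : 0 < f := hf ▸ pow_pos two_pos s
    have := A.cF.finK
    obtain ⟨E, hE, _⟩ := exists_field_pos A.cF hf0 h3
    have := Fintype.ofFinite E
    have h6 : Q ^ f = Fintype.card E := by rw [card_eq_pow_finrank (K := F), hE, hQ, Nat.cast_pow]
    obtain ⟨A₁, hρ₁, -⟩ := (boxA E K θ (Q ^ f) M k 2 hp (p_ne E (h6 ▸ dvd_pow h1 f)) (H505.S4536.Ext.ctx_ext A.cF E (hE ▸ h2))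
      (ctx_pow A.ctx hf0 h2)).1 h6
    have h7 : (Nat.card F : ℤ) = Q := by rw [hQ, Nat.card_eq_fintype_card]
    obtain ⟨z, ⟨a, ha⟩, hz, hmin⟩ := exists_z A.ctx hp hu s (hf' ▸ h3)
    rw [← hf'] at hmin
    obtain ⟨c, hc⟩ : ∃ c : Eˣ, Units.map (algebraMap E K).toMonoidHom c = z :=
      (A₁.dsur k hk0 z (by rw [zpow_sub_one, (hmin f).2 dvd_rfl, mul_inv_cancel])).elim fun g hg => ⟨_, hg⟩
    have hadj : Algebra.adjoin F {(c : E)} = ⊤ := adjoin_eq_top E _ fun i _ hi h => by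
      have h8 := congrArg (Units.map (algebraMap E K).toMonoidHom) (show c ^ Nat.card F ^ i = c from Units.ext h)
      rw [map_pow, hc, ← zpow_natCast, Nat.cast_pow, h7] at h8
      rw [hE] at hi ⊢
      exact Nat.dvd_antisymm hi ((hmin _).1 h8)
    refine lc_of A hp h1 hf hk h4 h5 A₁ (fun y _ => by rw [hρ₁]; exact ⟨_, rfl⟩) fun l n hl hn h => ?_
    have ε : ((Fin k → E) × (Fin l → F)) ≃ₗ[F] (Fin n → F) := LinearEquiv.ofFinrankEq _ _ (by
      rw [finrank_prod, finrank_pi_fintype, finrank_fin_fun, finrank_fin_fun, ← h, hE, Finset.sum_const, Finset.card_univ,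
        Fintype.card_fin, smul_eq_mul, add_comm, mul_comm])
    refine ⟨jj ε, jj ε (scl k c, 1), jj_injective ε, ⟨a, ?_⟩, centralizer_jj ε _ (fun e => hz (by rw [← hc, e, map_one])) hadj,
      A.t.val hp hf0 (r67 A.ctx hp hf0) A₁.t hn hl le_rfl _ _ (z := z) (a₀ := a) (ha ▸ pow_orderOf_eq_one z) hz hmin
        (fun x y u i => ?_) fun x u => ?_, fun e x => ?_⟩
    · rw [orderOf_injective _ (jj_injective ε), Prod.orderOf_mk, orderOf_one, Nat.lcm_one_right, orderOf_scl hk0, ← ha, ← hc,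
        orderOf_injective _ (Units.map_injective (algebraMap E K).injective)]
    · rw [A.typ, A.typ, hρ, hρ, MonoidHom.id_apply, mcol_jj, hE]
      refine congrArg (· + _) (Finset.sum_congr rfl fun j _ => ?_)
      rw [A₁.typ, hρ₁, show Q ^ j = (Nat.card F ^ j : ℕ) by rw [Nat.cast_pow, h7], zpow_natCast, Units.val_pow_eq_pow_val]
      rfl
    · rw [A₁.typ, A₁.typ, hρ₁, MonoidHom.id_apply, mcol_scl, hc]
      rfl
    · rw [Amb.d, Amb.d, hρ, hρ₁]
      exact (congrArg _ ((det_jj ε x 1).trans (by rw [map_one]; rfl))).trans (nrm_one (hE.trans e) _)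
  subst hQ
  obtain ⟨s, k, f, hf, hf', hk, hk0, h2, h3, h4, h5⟩ := key A.ctx.unit
  have hf0 : 0 < f := hf ▸ pow_pos two_pos s
  have hF' := Nat.card_eq_fintype_card.trans hF
  have ht : ∀ n (hn : n ≤ N), IsTypU q n (A.t.T n hn) := fun n hn g x => by rw [A.typ, hρ]; rfl
  rcases Nat.even_or_odd f with ⟨g, hg⟩ | ho
  · obtain rfl : f = 2 * g := hg.trans (two_mul g).symm
    obtain ⟨E, _, _, _, _, z, hE, hc, C, ctx⟩ := exists_feven A.cF hF' hp hu s hf' h3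
    have := Fintype.ofFinite E
    have h6 : g * k ≤ N := (Nat.mul_le_mul_right k (by omega)).trans h2
    have h7 : (-(q : ℤ)) ^ (2 * g) = Fintype.card E := by
      rw [← Nat.card_eq_fintype_card, hc, Nat.cast_pow, (even_two_mul g).neg_pow]
    obtain ⟨A₁, hρ₁, -⟩ := (boxA E K θ _ M k 2 hp (p_ne E (h7 ▸ dvd_pow h1 _)) (C k h6) (ctx k h6)).1 h7
    refine lc_of A hp h1 hf hk h4 h5 A₁ (fun y _ => by rw [hρ₁]; exact ⟨_, rfl⟩) fun l n hl hn h => ?_
    obtain ⟨j, h8, h9, -, -, h10⟩ := step_even hp hF (by omega) (r67 A.ctx hp hf0) A.t ht hE A₁.t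
      (fun n hn g x => by rw [A₁.typ, hρ₁]; rfl) le_rfl hl hn h
    exact ⟨j, _, h8, by rw [orderOf_injective j h8, Prod.orderOf_mk, orderOf_one, Nat.lcm_one_right, orderOf_scl hk0]; exact hE.ppow,
      h9, h10, fun e => by omega⟩
  · obtain ⟨E, _, _, _, _, z, hE, hc, C, -⟩ := exists_fodd A.cF hF' hp hu s hf' h3 ho
    have := Fintype.ofFinite E
    have := hE.tower
    have h6 : (-(q : ℤ)) ^ f = -((q ^ f : ℕ) : ℤ) := by rw [ho.neg_pow, Nat.cast_pow]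
    rw [Nat.card_eq_fintype_card] at hc
    obtain ⟨A₁, hρ₁, -⟩ := (boxA E K θ _ M k 2 hp (p_ne E (by rw [hc, Nat.cast_pow, ← neg_sq, ← h6]; exact dvd_pow (dvd_pow h1 f) 2))
      (C k h2) (ctx_pow A.ctx hf0 h2)).2 _ hc h6
    refine lc_of A hp h1 hf hk h4 h5 A₁ (fun y hy => ?_) fun l n hl hn h => ?_
    · rw [h6, ← neg_add', zpow_neg, inv_eq_one, ← Nat.cast_succ, zpow_natCast] at hy
      rw [hρ₁]
      exact ⟨gsc k y hy, rfl⟩
    obtain ⟨j, h8, h9, -, h10, h11⟩ := step_odd hp hF ho (r67 A.ctx hp hf0) A.t ht hE A₁.t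
      (fun n hn g x => by rw [A₁.typ, hρ₁]; rfl) le_rfl hl hn h
    refine ⟨j, _, h8, by rw [orderOf_injective j h8, Prod.orderOf_mk, orderOf_one, Nat.lcm_one_right, orderOf_gsc hk0]; exact hE.ppow,
      h9, h11, fun e x => ?_⟩
    rw [Amb.d, Amb.d, hρ, hρ₁]
    exact (congrArg _ ((h10 x 1).trans (by rw [OneMemClass.coe_one, map_one]; rfl))).trans (nrm_one (hE.finrank.trans e) _)

end Cfsg.Agent.BZ.A
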