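import Cfsg.Agent.BZ.A.Defs2
import Cfsg.Agent.RC.A.Deg
import Cfsg.Agent.H531.HT.Kap

/-!
# BZ, type A: the `2`-adic valuation of the degrees (helper55)
-/

set_option autoImplicit false

namespace Cfsg.Agent.BZ.A

open Cfsg Finset
open Cfsg.Agent.H577.GLB.Std Cfsg.Agent.H614.GLn.RSt Cfsg.Agent.H623.GU Cfsg.Agent.H112.GLB Cfsg.Agent.H615.GU
open Cfsg.Agent.H794.EM Cfsg.Agent.LV.A
open Cfsg.Agent.H794.XZ (row)

namespace V2

variable {T : ℤ} {m : ℕ}

theorem vz_odd {z : ℤ} (h : Odd z) : vz 2 z = 0 :=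
  Nat.factorization_eq_zero_of_not_dvd fun e => (Int.natAbs_odd.2 h).not_two_dvd_nat e

theorem vz_two {z : ℤ} (h : z ≠ 0) : vz 2 (2 * z) = vz 2 z + 1 := by
  rw [vz_mul two_ne_zero h, add_comm]
  exact congrArg _ Nat.prime_two.factorization_self

theorem vz_neg (z : ℤ) : vz 2 (-z) = vz 2 z := by rw [vz, vz, Int.natAbs_neg]

theorem geom (hT : Odd T) (h : ℕ) : ∃ c, ∑ i ∈ range h, T ^ i = h + 2 * c := by
  induction h with
  | zero => exact ⟨0, by simp⟩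
  | succ h ih =>
    obtain ⟨c, hc⟩ := ih
    obtain ⟨a, ha⟩ := hT.pow (n := h)
    exact ⟨c + a, by rw [sum_range_succ, hc, ha]; push_cast; ring⟩

theorem sub_odd (hT : Odd T) (h1 : T - 1 ≠ 0) {h : ℕ} (ho : Odd h) : vz 2 (T ^ h - 1) = vz 2 (T - 1) := by
  obtain ⟨c, hc⟩ := geom hT h
  have h2 : Odd (∑ i ∈ range h, T ^ i) := hc ▸ ho.natCast.add_even (even_two_mul c)
  rw [← geom_sum_mul, vz_mul (fun e => by simp [e] at h2) h1, vz_odd h2, zero_add]

theorem add_le (hT : Odd T) (h1 : T + 1 ≠ 0) (h : ℕ) : vz 2 (T ^ h + 1) ≤ vz 2 (T + 1) := by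
  rcases h.even_or_odd with ⟨a, rfl⟩ | ho
  · obtain ⟨b, hb⟩ := hT.pow (n := a)
    obtain ⟨c, rfl⟩ := hT
    have h2 : Odd (2 * (b * b + b) + 1) := odd_two_mul_add_one _
    rw [pow_add, hb, show (2 * b + 1) * (2 * b + 1) + 1 = 2 * (2 * (b * b + b) + 1) by ring, vz_two (by omega), vz_odd h2,
      show 2 * c + 1 + 1 = 2 * (c + 1) by ring, vz_two (by omega)]
    omega
  · rw [← vz_neg, ← vz_neg (T + 1), neg_add', neg_add', ← ho.neg_pow, sub_odd hT.neg (by omega) ho]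

theorem g_le (hT : Odd T) (h2 : 2 ≤ |T|) (h : ℕ) (h0 : 0 < h) :
    vz 2 (T ^ h - 1) ≤ vz 2 (T - 1) + h.factorization 2 * vz 2 (T + 1) := by
  have h1 : T - 1 ≠ 0 ∧ T + 1 ≠ 0 := by
    rcases le_abs.1 h2 with h | h <;> omega
  induction h using Nat.strong_induction_on with
  | _ h ih =>
    rcases h.even_or_odd' with ⟨a, rfl | rfl⟩
    · have h3 : T ^ (2 * a) - 1 = (T ^ a - 1) * (T ^ a + 1) := by ring
      have h4 := mul_ne_zero_iff.1 (h3 ▸ sub_ne_zero.2 (pow_ne_one h2 h0))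
      have h5 := ih a (by omega) (by omega)
      have h6 := add_le hT h1.2 a
      rw [h3, vz_mul h4.1 h4.2, Nat.factorization_mul two_ne_zero (by omega), Finsupp.add_apply,
        Nat.prime_two.factorization_self, add_mul]
      omega
    · exact (sub_odd hT h1.1 (odd_two_mul_add_one a)).le.trans (Nat.le_add_right _ _)

/-- the sum over the hooks -/
def hk (F : ℕ → ℕ) (β : Fin m → ℕ) : ℕ := ∑ j, ∑ x ∈ range (β j) \ (Iio j).image β, F (β j - x)

variable {β : Fin m → ℕ}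

theorem hk_split (hβ : StrictMono β) (F : ℕ → ℕ) :
    ∑ j, ∑ x ∈ range (β j), F (x + 1) = hk F β + ∑ j, ∑ i ∈ Iio j, F (β j - β i) := by
  rw [hk, ← sum_add_distrib]
  exact sum_congr rfl fun j _ => sum_split hβ F j

theorem hk_one (hβ : StrictMono β) : hk (fun _ => 1) β = bsz β := by
  have h := hk_split hβ fun _ => 1
  simp only [sum_const, card_range, smul_eq_mul, mul_one, Fin.card_Iio] at h
  rw [bsz]
  omega

theorem hk_fac (hβ : StrictMono β) (r : ℕ) : hk (fun k => k.factorization r) β ≤ (bsz β).factorial.factorization r := by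
  have hp : ∀ {j : Fin m}, ∀ i ∈ Iio j, 0 < β j - β i := fun i hi => Nat.sub_pos_of_lt (hβ (mem_Iio.1 hi))
  have h3 := hk_split hβ fun k => k.factorization r
  have hs := sum_eq_bsz hβ
  have h5 : ∏ i : Fin m, ∏ j ∈ Ioi i, ((β j : ℤ) - β i) = ∏ j : Fin m, ∏ i ∈ Iio j, ((β j - β i : ℕ) : ℤ) := by
    rw [prod_comm' (t' := univ) (s' := fun j => Iio j) fun i j => by simp]
    exact prod_congr rfl fun j _ => prod_congr rfl fun i hi => (Nat.cast_sub (hβ (mem_Iio.1 hi)).le).symm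
  have h6 : ∀ j : Fin m, ∀ i ∈ Iio j, ((β j - β i : ℕ) : ℤ) ≠ 0 := fun j i hi => Nat.cast_ne_zero.2 (hp i hi).ne'
  have h7 : ∀ n : ℕ, (n.factorial : ℤ) ≠ 0 := fun n => Nat.cast_ne_zero.2 n.factorial_ne_zero
  have h4 := congrArg (vz r) (H614.FM_ones_formula _ β hs)
  rw [h5, vz_mul (H614.FM_ones_pos _ hβ hs).ne' (prod_ne_zero_iff.2 fun _ _ => h7 _),
    vz_mul (h7 _) (prod_ne_zero_iff.2 fun j _ => prod_ne_zero_iff.2 (h6 j)), vz_natCast, vz_prod _ _ _ fun _ _ => h7 _,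
    vz_prod _ _ _ fun j _ => prod_ne_zero_iff.2 (h6 j), sum_congr rfl fun j _ => RC.A.Dg.vz_fact r (β j),
    sum_congr rfl fun j _ => (vz_prod _ _ _ (h6 j)).trans (sum_congr rfl fun i _ => vz_natCast r _)] at h4
  omega

theorem vz_PH (hT : 2 ≤ |T|) (k : ℕ) : vz 2 (PH T k) = ∑ x ∈ range k, vz 2 (T ^ (x + 1) - 1) := by
  rw [PH, vz_prod _ _ _ fun i _ => sub_ne_zero.2 (pow_ne_one hT (Nat.succ_pos i))]

theorem vz_PB (ho : Odd T) (hT : 2 ≤ |T|) (hβ : StrictMono β) :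
    vz 2 (PB T β) = hk (fun k => vz 2 (T ^ k - 1)) β + vz 2 (VD T β) := by
  have hp : ∀ {j : Fin m}, ∀ i ∈ Iio j, 0 < β j - β i := fun i hi => Nat.sub_pos_of_lt (hβ (mem_Iio.1 hi))
  have h0 : ∀ j : Fin m, ∀ i ∈ Iio j, T ^ (β j - β i) - 1 ≠ 0 := fun j i hi => sub_ne_zero.2 (pow_ne_one hT (hp i hi))
  have h0' : ∀ j : Fin m, ∀ i ∈ Iio j, T ^ β j - T ^ β i ≠ 0 := fun j i hi => by
    rw [VD_fac hβ hi]
    exact mul_ne_zero (pow_ne_zero _ (ne_zero_of_two hT)) (h0 j i hi)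
  rw [PB, vz_prod _ _ _ fun _ _ => PH_ne hT _, sum_congr rfl fun j _ => vz_PH hT (β j),
    hk_split hβ fun k => vz 2 (T ^ k - 1), VD, vz_prod _ _ _ fun j _ => prod_ne_zero_iff.2 (h0' j)]
  refine congrArg _ (sum_congr rfl fun j _ => ?_)
  rw [vz_prod _ _ _ (h0' j)]
  refine sum_congr rfl fun i hi => ?_
  rw [VD_fac hβ hi, vz_mul (pow_ne_zero _ (ne_zero_of_two hT)) (h0 j i hi), vz_odd ho.pow, zero_add]

theorem dv_eq (ho : Odd T) (hT : 2 ≤ |T|) (hβ : StrictMono β) : dv 2 T β = hk (fun k => vz 2 (T ^ k - 1)) β := by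
  rw [dv, vz_PB ho hT hβ, Nat.add_sub_cancel]

theorem hk_row (hm : 0 < m) (F : ℕ → ℕ) (k : ℕ) : hk F (row m k) = ∑ x ∈ range k, F (x + 1) := by
  have h1 : ∀ j : Fin m, (Iio j).image (row m k) = range j := fun j => by
    have h2 : ∀ i : Fin m, i < j → row m k i = i := fun i hi => by
      have := j.2
      rw [row, if_neg (by have := Fin.lt_def.1 hi; omega), add_zero]
    ext x
    simp only [mem_image, mem_Iio, mem_range]
    exact ⟨fun ⟨i, hi, e⟩ => e ▸ (h2 i hi).trans_lt hi, fun h => ⟨⟨x, h.trans j.2⟩, h, h2 _ h⟩⟩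
  rw [hk, sum_eq_single (⟨m - 1, by omega⟩ : Fin m) (fun j _ hj => ?_) (fun h => (h (mem_univ _)).elim), h1]
  · have h2 : row m k ⟨m - 1, by omega⟩ = m - 1 + k := by rw [row, if_pos (by simp only; omega)]
    rw [h2, show range (m - 1 + k) \ range (m - 1) = Ico (m - 1) (m - 1 + k) by ext; simp; omega, sum_Ico_eq_sum_range,
      Nat.add_sub_cancel_left, ← sum_range_reflect]
    refine sum_congr rfl fun x hx => congrArg F ?_
    have := mem_range.1 hx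
    omega
  · rw [h1, row, if_neg fun h => hj (Fin.ext (by simp only; omega)), add_zero, sdiff_self]
    rfl

end V2

open V2 in
/-- **One orbit.** -/
theorem boxV : BoxV := by
  intro T ho hT m
  refine ⟨fun hm k => by rw [dv_eq ho hT (H531.HT.row_mono _ _), hk_row hm, vz_PH hT],
    fun β hβ => ⟨by rw [vz_PB ho hT hβ]; exact Nat.le_add_left _ _, ?_⟩⟩
  refine le_trans ?_ (Nat.add_le_add_left (Nat.mul_le_mul_right _ (hk_fac hβ 2)) _)
  rw [dv_eq ho hT hβ, ← hk_one hβ]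
  simp only [hk, sum_mul, ← sum_add_distrib, one_mul]
  exact sum_le_sum fun j _ => sum_le_sum fun x hx => g_le ho hT _ (Nat.sub_pos_of_lt (mem_range.1 (mem_sdiff.1 hx).1))

/-- **Degrees.** -/
theorem boxD2 : BoxD2 := by
  rintro K _ θ Q M _ N G _ _ hQ ctx t n hn h0 m χ T ⟨s, hs⟩
  have hD : ((s : ℤ) : ℂ) * (charDegree (χ : G n → ℂ) : ℂ) = ph (Q : ℂ) n * eps Q M (SchP Q M T.t) := by
    rw [← om_one ctx t hn h0 (schP_mem_hom ctx.unit T), ← Blocks.Basic.irr_one_eq_charDegree χ.2]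
    exact (congrFun hs 1).symm
  choose u A h using fun c : ZMod M => eps_SS ctx.unit ctx.two c (T.mono c)
  have hT : ∀ c : ZMod M, 2 ≤ |Q ^ perZ Q M c| := fun c => two_pow ctx.two (perZ_pos ctx.unit c)
  have h1 : (s : ℤ) * charDegree (χ : G n → ℂ) * ∏ c ∈ repsZ Q M, (PB (Q ^ perZ Q M c) (T.t c) * (Q ^ perZ Q M c) ^ A c) =
      PH Q n * ∏ c ∈ repsZ Q M, ((u c : ℤ) * VD (Q ^ perZ Q M c) (T.t c)) := by
    apply Int.cast_injective (α := ℂ)
    rw [Int.cast_mul, Int.cast_mul, Int.cast_natCast, hD, Int.cast_mul, PH_cast, Int.cast_prod, Int.cast_prod,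
      SchP_eq, prodS, map_prod, mul_assoc, ← prod_mul_distrib]
    congr 1
    exact prod_congr rfl fun c _ => h c
  have h3 : ∀ c : ZMod M, PB (Q ^ perZ Q M c) (T.t c) * (Q ^ perZ Q M c) ^ A c ≠ 0 := fun c =>
    mul_ne_zero (PB_ne (hT c) _) (pow_ne_zero _ (ne_zero_of_two (hT c)))
  have h4 : ∀ c : ZMod M, (u c : ℤ) * VD (Q ^ perZ Q M c) (T.t c) ≠ 0 := fun c =>
    mul_ne_zero (u c).ne_zero (VD_ne (hT c) (T.mono c))
  have h5 : (s : ℤ) * charDegree (χ : G n → ℂ) ≠ 0 :=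
    mul_ne_zero s.ne_zero (Nat.cast_ne_zero.2 (Blocks.Basic.charDegree_pos χ.2).ne')
  have h6 := congrArg (vz 2) h1
  rw [vz_mul h5 (prod_ne_zero_iff.2 fun c _ => h3 c), vz_unit, vz_natCast,
    vz_mul (PH_ne ctx.two n) (prod_ne_zero_iff.2 fun c _ => h4 c), vz_prod _ _ _ fun c _ => h3 c,
    vz_prod _ _ _ fun c _ => h4 c] at h6
  rw [sum_congr rfl fun c _ => vz_unit (u c) _, sum_congr rfl fun c _ => (vz_mul (PB_ne (hT c) _)
    (pow_ne_zero _ (ne_zero_of_two (hT c)))).trans (by rw [V2.vz_odd hQ.pow.pow, add_zero,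
      V2.vz_PB hQ.pow (hT c) (T.mono c), ← V2.dv_eq hQ.pow (hT c) (T.mono c)]), sum_add_distrib] at h6
  unfold df
  omega

end Cfsg.Agent.BZ.A
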