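import Cfsg.Agent.BZ.A.Defs
import Cfsg.Agent.RC.A.Lab
import Cfsg.Agent.H76.GLB.Lower
import Cfsg.Agent.H531.HT.Kap
import Cfsg.Agent.H531.GU.Neck
import Cfsg.Agent.LV.A.Tow

/-!
# BZ, type A: the label of positive height (helper60)
-/

set_option autoImplicit false
set_option linter.unusedSectionVars false

namespace Cfsg.Agent.BZ.A

open Cfsg Finset
open Cfsg.Agent.H577.GLB.Std Cfsg.Agent.H614.GLn.RSt Cfsg.Agent.H615.GU
open Cfsg.Agent.RC.A (bb hi)
open Cfsg.Agent.H794.EM (vz)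
open Cfsg.Agent.H505.S4536.DC (pu pu_spec pReg_iff Sf sfun_eq Sf_same sum_orbit perZ_mul_dvd same_mul t_same)

namespace LabB

variable {Q : ℤ} {M p : ℕ} [NeZero M]

theorem fac_lt (hp : p.Prime) {N a : ℕ} (h : a < N - N % p) :
    a.factorial.factorization p < N.factorial.factorization p := by
  obtain ⟨K, hK⟩ : ∃ K, N - N % p = K + 1 := ⟨N - N % p - 1, by omega⟩
  have h1 : p * a.factorial ∣ N.factorial := (mul_dvd_mul (hK ▸ Nat.dvd_sub_mod N)
    (Nat.factorial_dvd_factorial (by omega : a ≤ K))).trans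
    (Nat.factorial_succ K ▸ Nat.factorial_dvd_factorial (by omega : K + 1 ≤ N))
  have h2 := (Nat.factorization_le_iff_dvd (mul_pos hp.pos a.factorial_pos).ne' N.factorial_pos.ne').2 h1 p
  rw [Nat.factorization_mul hp.pos.ne' a.factorial_pos.ne', Finsupp.add_apply, hp.factorization_self] at h2
  omega

theorem exists_c (hp : p.Prime) {b : ℕ} (h : p ^ b ∣ M) : ∃ c : ZMod M, ∀ i, (p : ZMod M) ^ i * c = 0 ↔ b ≤ i := by
  obtain ⟨m, hm⟩ := h
  have h0 : 0 < m := Nat.pos_of_ne_zero fun e => NeZero.ne M (by rw [hm, e, mul_zero])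
  refine ⟨m, fun i => ?_⟩
  rw [← Nat.cast_pow, ← Nat.cast_mul, ZMod.natCast_eq_zero_iff]
  conv_lhs => rw [hm]
  rw [Nat.mul_dvd_mul_iff_right h0, Nat.pow_dvd_pow_iff_le_right hp.one_lt]

theorem kill (hp : p.Prime) {x : ZMod M} (hx : pu M p * x = 0) {k : ℕ} (hk : ¬ p ∣ k) (h : (k : ZMod M) * x = 0) : x = 0 := by
  obtain ⟨j, hj⟩ := ((pu_spec hp).2.2.2 x).2 hx
  rw [← nsmul_eq_mul, ← addOrderOf_dvd_iff_nsmul_eq_zero] at h
  exact AddMonoid.addOrderOf_eq_one_iff.1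
    (Nat.eq_one_of_dvd_coprimes ((hp.coprime_iff_not_dvd.2 hk).pow_left j) hj.dvd h)

section zz

variable {C : Type} [CommGroup C] {w : C} {k : ℕ} {x y : ZMod M}

theorem z_lin (hw : w ^ (Q - 1) = 1) (hx : TorZ Q M k x) (hy : TorZ Q M k y) (a b : ℤ) :
    w ^ expoZ Q M k (a * x + b * y) = (w ^ expoZ Q M k x) ^ a * (w ^ expoZ Q M k y) ^ b := by
  have h1 := H531.GU.expoZ_mul hx
  have h2 := H531.GU.expoZ_mul hy
  have h3 := H531.GU.expoZ_mul (show TorZ Q M k (a * x + b * y) by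
    unfold TorZ at hx hy ⊢
    linear_combination a * hx + b * hy)
  obtain ⟨e, he⟩ : (M : ℤ) ∣ (((a * x + b * y : ZMod M).val : ℤ)) - a * x.val - b * y.val := by
    rw [← ZMod.intCast_zmod_eq_zero_iff_dvd]
    push_cast
    rw [ZMod.natCast_zmod_val, ZMod.natCast_zmod_val, ZMod.natCast_zmod_val]
    ring
  obtain ⟨s, hs⟩ := sub_dvd_pow_sub_pow Q 1 k
  rw [one_pow] at hs
  rw [show expoZ Q M k (a * x + b * y) = expoZ Q M k x * a + expoZ Q M k y * b + (Q - 1) * (s * e) from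
    mul_right_cancel₀ (Int.natCast_ne_zero.2 (NeZero.ne M)) (by linear_combination h3 - a * h1 - b * h2 + (Q ^ k - 1) * he + M * e * hs),
    zpow_add, zpow_add, zpow_mul, zpow_mul, zpow_mul, hw, one_zpow, mul_one]

theorem z_smul (hw : w ^ (Q - 1) = 1) (hx : TorZ Q M k x) (a : ℤ) : w ^ expoZ Q M k (a * x) = (w ^ expoZ Q M k x) ^ a := by
  simpa using z_lin hw hx hx a 0

theorem z_same (hw : w ^ (Q - 1) = 1) (hx : TorZ Q M k x) (h : SameZ Q M x y) : w ^ expoZ Q M k y = w ^ expoZ Q M k x := by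
  obtain ⟨j, rfl⟩ := h
  obtain ⟨s, hs⟩ := sub_dvd_pow_sub_pow Q 1 j
  rw [← Int.cast_pow, z_smul hw hx, eq_add_of_sub_eq hs, one_pow, zpow_add, zpow_one, zpow_mul, zpow_comm w, hw]
  simp

theorem z_reg (hw : w ^ (Q - 1) = 1) {l : ℕ} (hl : w ^ p ^ l = 1) (hx : TorZ Q M k x) (h : PReg M p x) :
    w ^ expoZ Q M k x = 1 := by
  have h1 := z_smul hw hx (addOrderOf x)
  rw [Int.cast_natCast, ← nsmul_eq_mul, addOrderOf_nsmul_eq_zero, zpow_natCast, expoZ, ZMod.val_zero] at h1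
  have h2 : (w ^ expoZ Q M k x) ^ p ^ l = 1 := by rw [← zpow_natCast, zpow_comm, zpow_natCast, hl, one_zpow]
  have h3 := pow_gcd_eq_one.2 ⟨h1.symm.trans (by simp), h2⟩
  rwa [show (addOrderOf x).gcd (p ^ l) = 1 from Nat.Coprime.pow_right l h, pow_one] at h3

end zz

variable (Q M p) in
/-- the points over `δ` with the period of `δ` -/
def Ov (δ x : ZMod M) : Prop := pu M p * x = δ ∧ (Q : ZMod M) ^ perZ Q M δ * x = x

variable {δ x y : ZMod M}

theorem Ov.per (h : Ov Q M p δ x) : perZ Q M x = perZ Q M δ :=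
  Nat.dvd_antisymm ((pow_mul_eq_iff _ _).1 h.2) (h.1 ▸ perZ_mul_dvd _ x)

theorem Ov.eq (h : Ov Q M p δ x) (e : SameZ Q M x y) (hy : pu M p * y = δ) : y = x := by
  obtain ⟨j, rfl⟩ := e
  rw [mul_left_comm, h.1, pow_mul_eq_iff] at hy
  rwa [pow_mul_eq_iff, h.per]

theorem Ov.same (h : Ov Q M p δ x) (e : SameZ Q M x y) : SameZ Q M δ (pu M p * y) := h.1 ▸ same_mul _ e

variable {P : Fin 3 → ZMod M}

open Classical in
variable (Q) in
/-- the other orbits -/
noncomputable def Rs (P : Fin 3 → ZMod M) : Finset (ZMod M) := (repsZ Q M).filter fun y => ¬ ∃ i, SameZ Q M (P i) y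

open Classical in
theorem split (hQ : IsUnit (Q : ZMod M)) (h : ∀ i, Ov Q M p δ (P i)) (hP : Function.Injective P) {A : Type} [CommMonoid A]
    (ψ : ZMod M → A) (hψ : ∀ x y, SameZ Q M x y → ψ y = ψ x) : ∏ y ∈ repsZ Q M, ψ y = (∏ i, ψ (P i)) * ∏ y ∈ Rs Q P, ψ y := by
  rw [← prod_filter_mul_prod_filter_not _ fun y => ∃ i, SameZ Q M (P i) y,
    show (repsZ Q M).filter (fun y => ∃ i, SameZ Q M (P i) y) = univ.image fun i => canon Q M (P i) from Finset.ext fun y => by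
      simp only [mem_filter, mem_image, mem_univ, true_and, mem_repsZ]
      exact ⟨fun ⟨e, i, e'⟩ => ⟨i, (canon_eq_of_same hQ e').trans e⟩, fun ⟨i, e⟩ => e ▸ ⟨canon_canon hQ _, i, sameZ_canon _⟩⟩,
    prod_image fun i _ j _ e => hP ((h i).eq ((canon_eq_iff hQ).1 e) (h j).1).symm]
  exact congrArg₂ _ (prod_congr rfl fun i _ => hψ _ _ (sameZ_canon _)) rfl

theorem split' (hQ : IsUnit (Q : ZMod M)) (h : ∀ i, Ov Q M p δ (P i)) (hP : Function.Injective P)
    (ψ : ZMod M → ℕ) (hψ : ∀ x y, SameZ Q M x y → ψ y = ψ x) :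
    ∑ y ∈ repsZ Q M, ψ y = ψ (P 0) + ψ (P 1) + ψ (P 2) + ∑ y ∈ Rs Q P, ψ y := by
  rw [← Fin.sum_univ_three fun i => ψ (P i)]
  exact split (A := Multiplicative ℕ) hQ h hP ψ hψ

/-- the new label -/
theorem exists_lab (hQ : IsUnit (Q : ZMod M)) (h : ∀ i, Ov Q M p δ (P i)) (hP : Function.Injective P) {n : ℕ} (hn : 0 < n)
    (t : LabZ Q M n n) (s : Fin 3 → ℕ) (hs : s 0 + s 1 + s 2 = bsz (t.t (P 0)) + bsz (t.t (P 1)) + bsz (t.t (P 2))) :
    ∃ T : LabZ Q M n n, (∀ i, bsz (T.t (P i)) = s i) ∧ ∀ y, (¬ ∃ i, SameZ Q M (P i) y) → T.t y = t.t y := by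
  classical
  let τ : ZMod M → Fin n → ℕ := fun y => if e : ∃ i, SameZ Q M (P i) y then H794.XZ.row n (s e.choose) else t.t y
  have h1 : ∀ i y, SameZ Q M (P i) y → τ y = H794.XZ.row n (s i) := fun i y e => by
    have e' : ∃ i, SameZ Q M (P i) y := ⟨i, e⟩
    rw [show τ y = _ from dif_pos e', hP ((h i).eq (SameZ.trans' e (SameZ.symm' hQ e'.choose_spec)) (h _).1)]
  have h2 : ∀ y, (¬ ∃ i, SameZ Q M (P i) y) → τ y = t.t y := fun y e => dif_neg e
  have h3 : ∀ x y, SameZ Q M x y → τ y = τ x := fun x y e => by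
    by_cases e' : ∃ i, SameZ Q M (P i) x
    · obtain ⟨i, e'⟩ := e'
      rw [h1 i x e', h1 i y (SameZ.trans' e' e)]
    · rw [h2 x e', h2 y fun ⟨i, e''⟩ => e' ⟨i, SameZ.trans' e'' (SameZ.symm' hQ e)⟩, t_same t.orb e]
  have h4 : ∀ i, bsz (τ (P i)) = s i := fun i => by rw [h1 i _ (sameZ_refl _), H531.HT.sum_row' hn]
  refine ⟨⟨τ, fun y => ?_, fun y => h3 _ _ ⟨1, by rw [pow_one]⟩, ?_⟩, h4, h2⟩
  · by_cases e : ∃ i, SameZ Q M (P i) y
    · obtain ⟨i, e⟩ := e
      exact h1 i y e ▸ H531.HT.row_mono _ _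
    · exact h2 y e ▸ t.mono y
  have h5 : ∀ σ : ZMod M → Fin n → ℕ, (∀ x y, SameZ Q M x y → σ y = σ x) → ∑ y, bsz (σ y) = perZ Q M δ *
      (bsz (σ (P 0)) + bsz (σ (P 1)) + bsz (σ (P 2))) + ∑ y ∈ Rs Q P, perZ Q M y * bsz (σ y) := fun σ e => by
    rw [sum_orbit hQ _ fun x y e' => by rw [e x y e'], split' hQ h hP _ fun x y e' => by rw [e x y e', perZ_of_same hQ e'],
      (h 0).per, (h 1).per, (h 2).per, mul_add, mul_add]
  refine Eq.trans ?_ t.sum
  rw [h5 τ h3, h5 t.t fun x y e => t_same t.orb e, h4, h4, h4, hs]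
  exact congrArg _ (sum_congr rfl fun y hy => by rw [h2 y (mem_filter.1 hy).2])

theorem hi_eq (hQ : IsUnit (Q : ZMod M)) (h : ∀ i, Ov Q M p δ (P i)) (hP : Function.Injective P) {m n : ℕ} (t : LabZ Q M m n) :
    hi Q M p t.t = (bsz (t.t (P 0)) + bsz (t.t (P 1)) + bsz (t.t (P 2))) * bb Q M p δ +
      ((bsz (t.t (P 0))).factorial.factorization p + (bsz (t.t (P 1))).factorial.factorization p +
        (bsz (t.t (P 2))).factorial.factorization p) +
      ∑ y ∈ Rs Q P, (bsz (t.t y) * bb Q M p y + (bsz (t.t y)).factorial.factorization p) := by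
  rw [hi, split' hQ h hP _ fun x y e => by rw [t_same t.orb e, bb, bb, perZ_of_same hQ e]]
  simp only [bb, (h _).per]
  ring

end LabB

open LabB in
/-- **The label.** -/
theorem boxL : BoxL := by
  intro Q M _ p n hp hp2 hQ1 hQ2 hQ hM t ht δ hδ hN
  classical
  have hp3 : 3 ≤ p := by
    have := hp.two_le
    omega
  have hr : ∀ y, bsz (t.t y) ≠ 0 → pu M p * y = y := fun y e => (pReg_iff hp y).1 (not_not.1 (mt (ht y) e))
  have hδ' := hr δ (by omega)
  have hf := perZ_pos hQ δ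
  have hfn : perZ Q M δ ≤ n := (Nat.le_mul_of_pos_right _ (by omega)).trans (LV.A.per_mul_le hQ t hδ)
  have hne := Int.natAbs_ne_zero.2 (H421.HT.pow_sub_one_ne hQ2 hf)
  have hb : p ^ bb Q M p δ ∣ (Q ^ perZ Q M δ - 1).natAbs := Nat.ordProj_dvd _ _
  have hb1 : 1 ≤ bb Q M p δ := (hp.dvd_iff_one_le_factorization hne).1 (Int.natCast_dvd.1 (RC.A.Lab.dvd_pow hQ1 _))
  obtain ⟨c, hc⟩ := exists_c (M := M) hp (hb.trans (Int.natAbs_dvd_natAbs.2 (hM _ hf hfn)))
  have hc0 : c ≠ 0 := fun e => by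
    have := (hc 0).1 (by rw [e, mul_zero])
    omega
  have hc1 : pu M p * c = 0 := ((pu_spec hp).2.2.1 c).1 ⟨_, (hc _).2 le_rfl⟩
  have hc2 : (Q : ZMod M) ^ perZ Q M δ * c = c := by
    obtain ⟨e, he⟩ := Int.natCast_dvd.2 hb
    have h1 := congrArg (Int.cast : ℤ → ZMod M) he
    push_cast at h1
    linear_combination c * h1 + e * (hc _).2 le_rfl
  have h2 : ∀ x, pu M p * x = 0 → 2 * x = 0 → x = 0 := fun x e e' =>
    kill hp e (k := 2) (fun d => by have := Nat.le_of_dvd two_pos d; omega) (by exact_mod_cast e')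
  have hc3 : 2 * c ≠ 0 := fun e => hc0 (h2 c hc1 e)
  have hδ2 : (Q : ZMod M) ^ perZ Q M δ * δ = δ := (pow_mul_eq_iff _ _).2 dvd_rfl
  let P : Fin 3 → ZMod M := ![δ, δ + c, δ - c]
  have hO : ∀ i, Ov Q M p δ (P i) := fun i => by
    fin_cases i <;> simp [P, Ov, mul_add, mul_sub, hδ', hc1, hc2, hδ2]
  have hP : Function.Injective P := fun i j e => by
    fin_cases i <;> fin_cases j <;> simp [P] at e ⊢
    all_goals first | exact hc0 (by linear_combination e) | exact hc3 (by linear_combination e) | exact hc3 (by linear_combination -e)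
  have h0 : ∀ y, pu M p * y = δ → y ≠ δ → bsz (t.t y) = 0 := fun y e e' => not_not.1 fun e'' => e' ((hr y e'').symm.trans e)
  have h1 : bsz (t.t (P 1)) = 0 := h0 _ (hO 1).1 (hP.ne (show (1 : Fin 3) ≠ 0 by decide))
  have h1' : bsz (t.t (P 2)) = 0 := h0 _ (hO 2).1 (hP.ne (show (2 : Fin 3) ≠ 0 by decide))
  obtain ⟨m, hm⟩ : ∃ m, m = bsz (t.t δ) % p / 2 + 1 := ⟨_, rfl⟩
  have hm1 := Nat.mod_lt (bsz (t.t δ)) hp.pos
  have hm2 : p + bsz (t.t δ) % p ≤ bsz (t.t δ) := by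
    have := Nat.le_of_dvd (by omega) (Nat.dvd_sub_mod (n := p) (bsz (t.t δ)))
    omega
  obtain ⟨T, hT, hT'⟩ := exists_lab hQ hO hP (hf.trans_le hfn) t ![bsz (t.t δ) - 2 * m, m, m] (by
    rw [h1, h1']
    show bsz (t.t δ) - 2 * m + m + m = bsz (t.t δ) + 0 + 0
    omega)
  have hT0 : bsz (T.t (P 0)) = bsz (t.t δ) - 2 * m := hT 0
  have hT1 : bsz (T.t (P 1)) = m := hT 1
  have hT2 : bsz (T.t (P 2)) = m := hT 2
  have h3 : ∀ y, pu M p * y = δ → bsz (T.t y) ≠ 0 → ∃ i, P i = y := fun y e e' => by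
    by_cases e'' : ∃ i, SameZ Q M (P i) y
    · exact e''.imp fun i d => ((hO i).eq d e).symm
    · exact ⟨0, ((hr y (hT' y e'' ▸ e')).symm.trans e).symm⟩
  have h4 := hi_eq hQ hO hP t
  rw [h1, h1', show P 0 = δ from rfl] at h4
  refine ⟨T, fun δ' hd => ?_, ?_, fun C _ w k hw hk => ?_, fun ⟨a, ha, ha', hF⟩ => ?_⟩
  · by_cases e : SameZ Q M δ δ'
    · rw [sfun_eq hp _ hd, Sf_same hQ T.orb e, t_same t.orb e, Sf, ← sum_subset (s₁ := univ.image P), sum_image hP.injOn,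
        Fin.sum_univ_three, hT0, hT1, hT2]
      · omega
      · exact image_subset_iff.2 fun i _ => mem_filter.2 ⟨mem_univ _, (hO i).1⟩
      · exact fun y hy e' => not_not.1 fun e'' => e' (by simpa using h3 y (mem_filter.1 hy).2 e'')
    · rw [← H157.GLB.sfun_of_pOnly hp ht hd, sfun_eq hp _ hd, sfun_eq hp _ hd]
      exact sum_congr rfl fun y hy => by rw [hT' y fun ⟨i, d⟩ => e ((mem_filter.1 hy).2 ▸ (hO i).same d)]
  · rw [h4, hi_eq hQ hO hP T, hT0, hT1, hT2, sum_congr rfl fun y hy => by rw [hT' y (mem_filter.1 hy).2],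
      Nat.factorization_factorial_eq_zero_of_lt (show m < p by omega),
      show bsz (t.t δ) - 2 * m + m + m = bsz (t.t δ) + 0 + 0 by omega]
    have := fac_lt hp (N := bsz (t.t δ)) (a := bsz (t.t δ) - 2 * m) (by omega)
    omega
  · have h5 : ∀ i, TorZ Q M (perZ Q M δ) (P i) := fun i => (torZ_iff _ _).2 (hO i).per.dvd
    rw [split hQ hO hP _ fun x y e => by
      rw [t_same T.orb e, ← perZ_of_same hQ e, z_same hw ((torZ_iff _ _).2 dvd_rfl) e], Fin.prod_univ_three, hT1, hT2,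
      (hO 0).per, (hO 1).per, (hO 2).per, z_reg hw hk (h5 0) ((pReg_iff hp _).2 hδ'), one_pow, one_mul, ← mul_pow]
    have h6 := z_lin hw (h5 1) (h5 2) 1 1
    rw [zpow_one, zpow_one, show ((1 : ℤ) : ZMod M) * P 1 + ((1 : ℤ) : ZMod M) * P 2 = ((2 : ℤ) : ZMod M) * P 0 by simp [P]; ring,
      z_smul hw (h5 0), z_reg hw hk (h5 0) ((pReg_iff hp _).2 hδ'), one_zpow] at h6
    rw [← h6, one_pow, one_mul]
    refine prod_eq_one fun y hy => ?_
    rw [hT' y (mem_filter.1 hy).2]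
    by_cases e : bsz (t.t y) = 0
    · rw [e, pow_zero]
    · rw [z_reg hw hk ((torZ_iff _ _).2 dvd_rfl) ((pReg_iff hp _).2 (hr y e)), one_pow]
  have h5 : pu M p * a = 0 := ((pu_spec hp).2.2.1 a).1 ⟨1, by rwa [pow_one]⟩
  have h6 : ∀ j : ℕ, bsz (T.t (δ + c - j * a)) = m := fun j => by
    induction j with
    | zero => rwa [Nat.cast_zero, zero_mul, sub_zero]
    | succ j ih => rw [← ih, ← hF (δ + c - j * a), Nat.cast_succ, add_mul, one_mul, sub_sub]
  have h7 : ∀ j : ℕ, j * a = c ∨ j * a = 0 ∨ j * a = 2 * c := fun j => by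
    obtain ⟨i, e⟩ := h3 (δ + c - j * a) (by linear_combination hδ' + hc1 - j * h5) (by rw [h6]; omega)
    fin_cases i
    exacts [.inl (by linear_combination (id e : δ = _)), .inr (.inl (by linear_combination (id e : δ + c = _))),
      .inr (.inr (by linear_combination (id e : δ - c = _)))]
  have h8 : 3 * c = 0 ∧ ∃ j : ℕ, j * a = c := by
    rcases h7 1 with e | e | e <;> rw [Nat.cast_one, one_mul] at e
    · subst e
      refine ⟨?_, 1, by simp⟩
      rcases h7 3 with e | e | e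
      exacts [absurd (by linear_combination e) hc3, by exact_mod_cast e, absurd (by linear_combination e) hc0]
    · exact absurd e ha
    · subst e
      rcases h7 2 with e | e | e
      · exact ⟨by linear_combination e, 2, e⟩
      · exact absurd (h2 _ h5 (by exact_mod_cast e)) hc3
      · exact absurd (by linear_combination e) hc3
  obtain rfl : p = 3 := not_not.1 fun e => hc0 (kill hp hc1 (k := 3)
    (fun d => e ((Nat.prime_dvd_prime_iff_eq hp Nat.prime_three).1 d)) (by exact_mod_cast h8.1))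
  have h9 : bb Q M 3 δ ≤ 1 := (hc 1).1 (by rw [pow_one]; exact_mod_cast h8.1)
  obtain ⟨j, hj⟩ := h8.2
  have h10 := h6 j
  rw [hj, add_sub_cancel_right, show δ = P 0 from rfl, hT0] at h10
  refine ⟨?_, h9⟩
  rw [h4, show bsz (t.t δ) = 3 by omega, sum_eq_zero fun y hy => ?_, show (Nat.factorial 3).factorization 3 = 1 by decide +kernel]
  · simp
    omega
  suffices e : bsz (t.t y) = 0 by simp [e]
  by_contra e
  have h11 := hF y
  rw [hT' y (mem_filter.1 hy).2, hT' _ fun ⟨i, d⟩ => (mem_filter.1 hy).2 ⟨0, by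
    have := (hO i).same d
    rwa [mul_sub, h5, sub_zero, hr y e] at this⟩] at h11
  exact ha (by linear_combination hr _ (h11 ▸ e) - hr y e + h5)

end Cfsg.Agent.BZ.A
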