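import Cfsg.Agent.BZ.A.Defs2
import Cfsg.Agent.BZ.A.Lab

/-!
# BZ, type A: the labels at the prime `2` (helper78)

* `L2.ar`, `L2.vz_PH` : valuations; `L2.Dat`, `L2.Ex` : the two new points over `δ` and their orbits;
* `boxL2`.
-/

set_option autoImplicit false
set_option linter.unusedSectionVars false

namespace Cfsg.Agent.BZ.A

open Cfsg Finset
open Cfsg.Agent.H577.GLB.Std Cfsg.Agent.H614.GLn.RSt Cfsg.Agent.H615.GU
open Cfsg.Agent.RC.A (bb)
open Cfsg.Agent.H794.EM (vz PH vz_mul PH_ne)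
open Cfsg.Agent.H794.XZ (row)
open Cfsg.Agent.H421.HT (pow_sub_one_ne)
open Cfsg.Agent.H505.S4536.DC (pu pu_spec pReg_iff Sf sfun_eq Sf_same sum_Sf perZ_mul_dvd same_mul t_same)

namespace L2

section ar

theorem le_vz {z : ℤ} (hz : z ≠ 0) {k : ℕ} : k ≤ vz 2 z ↔ (2 : ℤ) ^ k ∣ z := by
  rw [vz, ← Nat.prime_two.pow_dvd_iff_le_factorization (Int.natAbs_ne_zero.2 hz), ← Int.natCast_dvd]
  push_cast
  rfl

theorem vz_mono {a b : ℤ} (hb : b ≠ 0) (h : a ∣ b) : vz 2 a ≤ vz 2 b :=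
  (le_vz hb).2 (((le_vz (ne_zero_of_dvd_ne_zero hb h)).1 le_rfl).trans h)

variable {T : ℤ}

theorem pow_dvd (T : ℤ) {a b : ℕ} (h : a ∣ b) : T ^ a - 1 ∣ T ^ b - 1 := by
  obtain ⟨c, rfl⟩ := h
  simpa [pow_mul] using sub_dvd_pow_sub_pow (T ^ a) 1 c

theorem ne_pm (h : 2 ≤ |T|) : T - 1 ≠ 0 ∧ T + 1 ≠ 0 :=
  mul_ne_zero_iff.1 (by rw [show (T - 1) * (T + 1) = T ^ 2 - 1 by ring]; exact pow_sub_one_ne h two_pos)

theorem vz_sq (h : 2 ≤ |T|) : vz 2 (T ^ 2 - 1) = vz 2 (T - 1) + vz 2 (T + 1) := by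
  rw [← vz_mul (ne_pm h).1 (ne_pm h).2]
  exact congrArg _ (by ring)

theorem ar (hT : Odd T) (h : 2 ≤ |T|) : 1 ≤ vz 2 (T - 1) ∧ 1 ≤ vz 2 (T + 1) ∧ (vz 2 (T - 1) ≤ 1 ∨ vz 2 (T + 1) ≤ 1) ∧
    3 ≤ vz 2 (T - 1) + vz 2 (T + 1) := by
  have h1 := le_vz (ne_pm h).1 (k := 1)
  have h2 := le_vz (ne_pm h).2 (k := 1)
  have h3 := le_vz (ne_pm h).1 (k := 2)
  have h4 := le_vz (ne_pm h).2 (k := 2)
  obtain ⟨k, rfl⟩ := hT
  norm_num at h1 h2 h3 h4 ⊢
  omega

theorem vz_PH (h : 2 ≤ |T|) (k : ℕ) : vz 2 (PH T k) + (2 * vz 2 (T - 1) + vz 2 (T + 1)) ≤ vz 2 (PH T (k + 2)) := by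
  have h1 := pow_sub_one_ne h (k := k + 1) k.succ_pos
  have h2 := pow_sub_one_ne h (k := k + 1 + 1) (k + 1).succ_pos
  have h3 := vz_mono h1 (pow_dvd T (one_dvd _))
  have h4 := vz_mono h2 (pow_dvd T (one_dvd _))
  have h5 := fun e => vz_mono h1 (pow_dvd T (a := 2) e)
  have h6 := fun e => vz_mono h2 (pow_dvd T (a := 2) e)
  rw [show PH T (k + 2) = PH T k * (T ^ (k + 1) - 1) * (T ^ (k + 1 + 1) - 1) by rw [PH, prod_range_succ, prod_range_succ, PH],
    vz_mul (mul_ne_zero (PH_ne h k) h1) h2, vz_mul (PH_ne h k) h1]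
  rw [pow_one] at h3 h4
  rw [vz_sq h] at h5 h6
  omega

theorem vz_odd (hT : Odd T) (h : 2 ≤ |T|) {f : ℕ} (hf : ¬ 2 ∣ f) : vz 2 (T ^ f - 1) ≤ vz 2 (T - 1) := by
  obtain ⟨i, rfl⟩ : ∃ i, f = 2 * i + 1 := ⟨f / 2, by omega⟩
  by_contra h1
  have h2 := (le_vz (pow_sub_one_ne h (2 * i).succ_pos)).1 (not_le.1 h1)
  have h3 : (2 : ℤ) ^ (vz 2 (T - 1) + 1) ∣ T ^ (2 * i) - 1 := ((le_vz (pow_sub_one_ne h two_pos)).1 (by
    have := ar hT h
    rw [vz_sq h]
    omega)).trans (pow_dvd T (Dvd.intro _ rfl))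
  have h4 := (le_vz (ne_pm h).1).2 (show (2 : ℤ) ^ (vz 2 (T - 1) + 1) ∣ T - 1 by
    simpa [pow_succ T, sub_mul] using h2.sub (h3.mul_right T))
  omega

end ar

variable {Q : ℤ} {M : ℕ} [NeZero M] {δ y x x' : ZMod M}

variable (Q) in
/-- the label `δ` and the shift `y` -/
structure Dat (δ y : ZMod M) : Prop where
  hQ : IsUnit (Q : ZMod M)
  hδ : pu M 2 * δ = δ
  hy : pu M 2 * y = 0
  two : 2 * y ≠ 0
  pm : (Q : ZMod M) ^ perZ Q M δ * y = y ∨ (Q : ZMod M) ^ perZ Q M δ * y = -y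

variable (Q) in
/-- the new orbits -/
def Ex (δ y x : ZMod M) : Prop := SameZ Q M (δ + y) x ∨ SameZ Q M (δ - y) x

theorem Ex.of_same (h : Ex Q δ y x) (e : SameZ Q M x x') : Ex Q δ y x' := h.imp (SameZ.trans' · e) (SameZ.trans' · e)

theorem Dat.pow (d : Dat Q δ y) {j : ℕ} (h : perZ Q M δ ∣ j) : (Q : ZMod M) ^ j * y = y ∨ (Q : ZMod M) ^ j * y = -y := by
  obtain ⟨i, rfl⟩ := h
  induction i with
  | zero => exact .inl (by simp)
  | succ i ih =>
    rw [mul_add, mul_one, pow_add, mul_assoc]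
    rcases d.pm with e | e <;> rw [e]
    · exact ih
    · exact ih.symm.imp (fun e => by rw [mul_neg, e, neg_neg]) fun e => by rw [mul_neg, e]

theorem Dat.form (d : Dat Q δ y) (h : Ex Q δ y x) : ∃ j : ℕ, pu M 2 * x = (Q : ZMod M) ^ j * δ ∧
    (x = (Q : ZMod M) ^ j * δ + (Q : ZMod M) ^ j * y ∨ x = (Q : ZMod M) ^ j * δ - (Q : ZMod M) ^ j * y) := by
  rcases h with ⟨j, rfl⟩ | ⟨j, rfl⟩
  · exact ⟨j, by linear_combination (Q : ZMod M) ^ j * (d.hδ + d.hy), .inl (mul_add _ _ _)⟩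
  · exact ⟨j, by linear_combination (Q : ZMod M) ^ j * (d.hδ - d.hy), .inr (mul_sub _ _ _)⟩

theorem Dat.same (d : Dat Q δ y) (h : Ex Q δ y x) : SameZ Q M δ (pu M 2 * x) := (d.form h).imp fun _ e => e.1

theorem Dat.cases (d : Dat Q δ y) (h : Ex Q δ y x) (e : pu M 2 * x = δ) : x = δ + y ∨ x = δ - y := by
  obtain ⟨j, h1, h2⟩ := d.form h
  rw [← h1, e] at h2
  rcases d.pow ((pow_mul_eq_iff _ _).1 (h1.symm.trans e)) with h3 | h3 <;> rw [h3] at h2
  · exact h2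
  · exact h2.symm.imp (by rw [sub_neg_eq_add]; exact id) (by rw [← sub_eq_add_neg]; exact id)

theorem Dat.ne (d : Dat Q δ y) (h : Ex Q δ y x) : 2 * (x - pu M 2 * x) ≠ 0 := fun e => by
  obtain ⟨j, h1, h2⟩ := d.form h
  refine d.two ((d.hQ.pow j).mul_right_eq_zero.1 ?_)
  rw [h1] at e
  rcases h2 with h2 | h2
  · linear_combination e - 2 * h2
  · linear_combination 2 * h2 - e

theorem Dat.not_reg (d : Dat Q δ y) (h : Ex Q δ y x) : pu M 2 * x ≠ x := fun e => d.ne h (by rw [e, sub_self, mul_zero])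

theorem Dat.reg (d : Dat Q δ y) (h : SameZ Q M δ x) : pu M 2 * x = x := by
  obtain ⟨j, rfl⟩ := h
  rw [mul_left_comm, d.hδ]

theorem ex_add : Ex Q δ y (δ + y) := .inl (sameZ_refl _)

theorem ex_sub : Ex Q δ y (δ - y) := .inr (sameZ_refl _)

/-- the new labels -/
theorem Dat.exists_lab (d : Dat Q δ y) {n : ℕ} (hn : 0 < n) (t : LabZ Q M n n) (ht : POnly M 2 t.t) (a e : ℕ)
    (hs : a + 2 * e = bsz (t.t δ)) : ∃ T : LabZ Q M n n, Fam M 2 T.t t.t ∧ (∀ x, SameZ Q M δ x → T.t x = row n a) ∧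
      (∀ x, Ex Q δ y x → T.t x = row n e) ∧ ∀ x, ¬ SameZ Q M δ x → ¬ Ex Q δ y x → T.t x = t.t x := by
  classical
  have hQ := d.hQ
  let τ : ZMod M → Fin n → ℕ := fun x => if SameZ Q M δ x then row n a else if Ex Q δ y x then row n e else t.t x
  have h1 : ∀ x, SameZ Q M δ x → τ x = row n a := fun x h => if_pos h
  have h2 : ∀ x, Ex Q δ y x → τ x = row n e := fun x h => (if_neg fun h' => d.not_reg h (d.reg h')).trans (if_pos h)
  have h3 : ∀ x, ¬ SameZ Q M δ x → ¬ Ex Q δ y x → τ x = t.t x := fun x h h' => (if_neg h).trans (if_neg h')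
  have h4 : ∀ x, τ ((Q : ZMod M) * x) = τ x := fun x => by
    have s : SameZ Q M x ((Q : ZMod M) * x) := ⟨1, by rw [pow_one]⟩
    by_cases h : SameZ Q M δ x
    · rw [h1 x h, h1 _ (SameZ.trans' h s)]
    by_cases h' : Ex Q δ y x
    · rw [h2 x h', h2 _ (h'.of_same s)]
    · rw [h3 x h h', h3 _ (fun k => h (SameZ.trans' k (SameZ.symm' hQ s))) fun k => h' (k.of_same (SameZ.symm' hQ s)), t.orb]
  have h5 : ∀ c, Sf M 2 τ c = Sf M 2 t.t c := fun c => by
    by_cases h : SameZ Q M δ c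
    · have hr := (pReg_iff Nat.prime_two δ).2 d.hδ
      have k1 : δ ≠ δ + y := fun k => d.two (by linear_combination -2 * k)
      have k2 : δ ≠ δ - y := fun k => d.two (by linear_combination 2 * k)
      have k3 : δ + y ≠ δ - y := fun k => d.two (by linear_combination k)
      rw [Sf_same hQ h4 h, Sf_same hQ t.orb h, ← sfun_eq Nat.prime_two t.t hr, H157.GLB.sfun_of_pOnly Nat.prime_two ht hr, Sf,
        ← sum_subset (s₁ := {δ, δ + y, δ - y}), sum_insert (by simp [k1, k2]), sum_pair k3, h1 _ (sameZ_refl _), h2 _ ex_add,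
        h2 _ ex_sub, H531.HT.sum_row' hn, H531.HT.sum_row' hn]
      · omega
      · intro x hx
        simp only [mem_insert, mem_singleton] at hx
        refine mem_filter.2 ⟨mem_univ _, ?_⟩
        rcases hx with rfl | rfl | rfl
        exacts [d.hδ, by linear_combination d.hδ + d.hy, by linear_combination d.hδ - d.hy]
      · intro x hx hx'
        have k := (mem_filter.1 hx).2
        simp only [mem_insert, mem_singleton, not_or] at hx'
        have k4 : pu M 2 * x ≠ x := fun k' => hx'.1 (k'.symm.trans k)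
        rw [h3 x (fun s => k4 (d.reg s)) fun s => (d.cases s k).elim hx'.2.1 hx'.2.2]
        exact ht x (mt (pReg_iff Nat.prime_two x).1 k4)
    · exact sum_congr rfl fun x hx => by
        rw [h3 x (fun s => h ((mem_filter.1 hx).2 ▸ (d.reg s).symm ▸ s)) fun s => h ((mem_filter.1 hx).2 ▸ d.same s)]
  refine ⟨⟨τ, fun x => ?_, h4, ?_⟩, fun c hc => ?_, h1, h2, h3⟩
  · by_cases h : SameZ Q M δ x
    · exact h1 x h ▸ H531.HT.row_mono _ _
    by_cases h' : Ex Q δ y x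
    · exact h2 x h' ▸ H531.HT.row_mono _ _
    · exact h3 x h h' ▸ t.mono x
  · rw [← sum_Sf (p := 2), sum_congr rfl fun c _ => h5 c, sum_Sf, t.sum]
  · rw [← H157.GLB.sfun_of_pOnly Nat.prime_two ht hc, sfun_eq Nat.prime_two _ hc, sfun_eq Nat.prime_two _ hc]
    exact h5 c

open Classical in
variable (Q) in
/-- the other orbits -/
noncomputable def Rs (δ y : ZMod M) : Finset (ZMod M) := (repsZ Q M).filter fun x => ¬ SameZ Q M δ x ∧ ¬ Ex Q δ y x

open Classical in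
theorem Dat.split (d : Dat Q δ y) (hδ : δ ∈ repsZ Q M) {A : Type} [CommMonoid A] (ψ : ZMod M → A) :
    ∏ x ∈ repsZ Q M, ψ x = ψ δ * (∏ x ∈ {canon Q M (δ + y), canon Q M (δ - y)}, ψ x) * ∏ x ∈ Rs Q δ y, ψ x := by
  have hQ := d.hQ
  rw [← prod_filter_mul_prod_filter_not _ fun x => SameZ Q M δ x ∨ Ex Q δ y x, ← prod_insert]
  · refine congrArg₂ _ (prod_congr (Finset.ext fun x => ?_) fun _ _ => rfl)
      (prod_congr (filter_congr fun x _ => not_or) fun _ _ => rfl)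
    simp only [mem_filter, mem_insert, mem_singleton, mem_repsZ]
    constructor
    · rintro ⟨e, h | h | h⟩
      exacts [.inl (e.symm.trans ((canon_eq_of_same hQ h).symm.trans (mem_repsZ.1 hδ))),
        .inr (.inl (e.symm.trans (canon_eq_of_same hQ h).symm)), .inr (.inr (e.symm.trans (canon_eq_of_same hQ h).symm))]
    · rintro (rfl | rfl | rfl)
      exacts [⟨mem_repsZ.1 hδ, .inl (sameZ_refl _)⟩, ⟨canon_canon hQ _, .inr (.inl (sameZ_canon _))⟩,
        ⟨canon_canon hQ _, .inr (.inr (sameZ_canon _))⟩]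
  · simp only [mem_insert, mem_singleton]
    rintro (h | h)
    · exact d.not_reg (ex_add.of_same ((sameZ_canon _).imp fun _ => h.trans)) d.hδ
    · exact d.not_reg (ex_sub.of_same ((sameZ_canon _).imp fun _ => h.trans)) d.hδ

theorem abs_pow_le (h : 2 ≤ |Q|) {k : ℕ} (hk : 0 < k) : 2 ≤ |Q ^ k| := by
  rw [abs_pow]
  exact h.trans (le_self_pow₀ (by omega) hk.ne')

open Classical LabB in
/-- the two new points -/
theorem Dat.pair (d : Dat Q δ y) (h1 : Odd Q) (h2 : 2 ≤ |Q|) :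
    ∑ x ∈ {canon Q M (δ + y), canon Q M (δ - y)}, vz 2 (Q ^ perZ Q M x - 1) <
      2 * vz 2 (Q ^ perZ Q M δ - 1) + vz 2 (Q ^ perZ Q M δ + 1) ∧
    ∀ (C : Type) [CommGroup C] (w : C) (k : ℕ), w ^ (Q - 1) = 1 → w ^ 2 ^ k = 1 →
      ∏ x ∈ {canon Q M (δ + y), canon Q M (δ - y)}, w ^ expoZ Q M (perZ Q M x) x = 1 := by
  have hQ := d.hQ
  have hf := perZ_pos hQ δ
  have h3 := abs_pow_le h2 hf
  have h4 := ar (h1.pow (n := perZ Q M δ)) h3
  have h5 : (Q : ZMod M) ^ perZ Q M δ * δ = δ := (pow_mul_eq_iff _ _).2 dvd_rfl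
  have h6 : ∀ x, perZ Q M (canon Q M x) = perZ Q M x := fun x => (perZ_of_same hQ (sameZ_canon x)).symm
  have h7 : pu M 2 * (δ + y) = δ := by linear_combination d.hδ + d.hy
  have hr := (pReg_iff Nat.prime_two δ).2 d.hδ
  rcases d.pm with e | e
  · have o1 : Ov Q M 2 δ (δ + y) := ⟨h7, by linear_combination h5 + e⟩
    have o2 : Ov Q M 2 δ (δ - y) := ⟨by linear_combination d.hδ - d.hy, by linear_combination h5 - e⟩
    have k : canon Q M (δ + y) ≠ canon Q M (δ - y) := fun k =>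
      d.two (by linear_combination -o1.eq ((canon_eq_iff hQ).1 k) o2.1)
    refine ⟨by rw [sum_pair k, h6, h6, o1.per, o2.per]; omega, fun C _ w l hw hl => ?_⟩
    have t1 := (torZ_iff _ _).2 o1.per.dvd
    have t2 := (torZ_iff _ _).2 o2.per.dvd
    have t0 : TorZ Q M (perZ Q M δ) δ := (torZ_iff _ _).2 dvd_rfl
    have h8 := z_lin hw t1 t2 1 1
    rw [zpow_one, zpow_one, show ((1 : ℤ) : ZMod M) * (δ + y) + ((1 : ℤ) : ZMod M) * (δ - y) = ((2 : ℤ) : ZMod M) * δ by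
      push_cast; ring, z_smul hw t0, z_reg hw hl t0 hr, one_zpow] at h8
    rw [prod_pair k, h6, h6, o1.per, o2.per, z_same hw t1 (sameZ_canon _), z_same hw t2 (sameZ_canon _), ← h8]
  · have k : canon Q M (δ - y) = canon Q M (δ + y) :=
      (canon_eq_of_same hQ ⟨perZ Q M δ, by linear_combination -h5 - e⟩).symm
    have t0 : TorZ Q M (perZ Q M δ * 2) δ := (torZ_iff _ _).2 (Dvd.intro _ rfl)
    have t1 : TorZ Q M (perZ Q M δ * 2) y := by
      unfold TorZ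
      rw [pow_mul]
      linear_combination ((Q : ZMod M) ^ perZ Q M δ - 1) * e
    have t2 : TorZ Q M (perZ Q M δ * 2) (δ + y) := by
      unfold TorZ at t0 t1 ⊢
      linear_combination t0 + t1
    have h8 : perZ Q M (δ + y) = perZ Q M δ * 2 := by
      obtain ⟨c, hc⟩ : perZ Q M δ ∣ perZ Q M (δ + y) := by simpa [h7] using perZ_mul_dvd (Q := Q) (pu M 2) (δ + y)
      have h9 := (torZ_iff _ _).1 t2
      rw [hc] at h9 ⊢
      rcases (Nat.dvd_prime Nat.prime_two).1 (Nat.dvd_of_mul_dvd_mul_left hf h9) with rfl | rfl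
      · have h10 := (pow_mul_eq_iff (Q := Q) (perZ Q M δ) (δ + y)).2 (by rw [hc, mul_one])
        exact absurd (by linear_combination h5 + e - h10) d.two
      · rfl
    rw [k, pair_eq_singleton]
    refine ⟨by rw [sum_singleton, h6, h8, pow_mul, vz_sq h3]; omega, fun C _ w l hw hl => ?_⟩
    have h9 := z_lin hw t0 t1 1 1
    rw [Int.cast_one, one_mul, one_mul, z_reg hw hl t0 hr, one_zpow, one_mul, zpow_one] at h9
    obtain ⟨s, hs⟩ : (M : ℤ) ∣ (Q ^ perZ Q M δ + 1) * y.val := by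
      rw [← ZMod.intCast_zmod_eq_zero_iff_dvd]
      push_cast
      rw [ZMod.natCast_zmod_val]
      linear_combination e
    obtain ⟨u, hu⟩ := pow_dvd Q (one_dvd (perZ Q M δ))
    have h10 := H531.GU.expoZ_mul t1
    rw [prod_singleton, h6, h8, z_same hw t2 (sameZ_canon _), h9, show expoZ Q M (perZ Q M δ * 2) y = (Q - 1) * (u * s) from
      mul_right_cancel₀ (Int.natCast_ne_zero.2 (NeZero.ne M)) (by
        rw [h10, pow_mul]
        linear_combination (Q ^ perZ Q M δ - 1) * hs + M * s * hu), zpow_mul, hw, one_zpow]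

end L2

open L2 in
/-- **The labels at the prime `2`.** -/
theorem boxL2 (hV : BoxV) : BoxL2 := by
  intro Q M _ n h1 h2 hQ hM t ht δ hδ hN
  classical
  have hp := Nat.prime_two
  have hr : ∀ x, bsz (t.t x) ≠ 0 → pu M 2 * x = x := fun x e => (pReg_iff hp x).1 (not_not.1 (mt (ht x) e))
  have hf := perZ_pos hQ δ
  have hfn : perZ Q M δ * 2 ≤ n := (Nat.mul_le_mul_left _ hN).trans (LV.A.per_mul_le hQ t hδ)
  have hn : 0 < n := by omega
  have h3 := abs_pow_le h2 hf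
  have h4 := ar (h1.pow (n := perZ Q M δ)) h3
  obtain ⟨y, hy⟩ := LabB.exists_c (M := M) (b := vz 2 (Q ^ perZ Q M δ - 1) + vz 2 (Q ^ perZ Q M δ + 1) - 1) hp (by
    have h5 := hM _ (by omega) hfn
    rw [pow_mul] at h5
    exact_mod_cast ((le_vz (pow_sub_one_ne h3 two_pos)).1 (by rw [vz_sq h3]; omega)).trans h5)
  have h5 : ∀ z : ℤ, z ≠ 0 → vz 2 (Q ^ perZ Q M δ - 1) + vz 2 (Q ^ perZ Q M δ + 1) - 1 ≤ vz 2 z → (z : ZMod M) * y = 0 :=
    fun z hz h => by
    obtain ⟨u, rfl⟩ := (le_vz hz).1 h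
    have := (hy _).2 le_rfl
    push_cast at this ⊢
    linear_combination u * this
  have d : Dat Q δ y := ⟨hQ, hr δ (by omega), ((pu_spec hp).2.2.1 y).1 ⟨_, (hy _).2 le_rfl⟩, fun e => by
      have := (hy 1).1 (by simpa using e)
      omega, by
    rcases h4.2.2.1 with e | e
    · have := h5 _ (ne_pm h3).2 (by omega)
      push_cast at this
      exact .inr (by linear_combination this)
    · have := h5 _ (ne_pm h3).1 (by omega)
      push_cast at this
      exact .inl (by linear_combination this)⟩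
  obtain ⟨T₀, a1, a2, -, a4⟩ := d.exists_lab hn t ht (bsz (t.t δ)) 0 rfl
  obtain ⟨T, b1, b2, b3, b4⟩ := d.exists_lab hn t ht (bsz (t.t δ) - 2) 1 (by omega)
  obtain ⟨p1, p2⟩ := d.pair h1 h2
  have hS : ∀ x ∈ ({canon Q M (δ + y), canon Q M (δ - y)} : Finset (ZMod M)), T.t x = row n 1 := fun x hx => by
    rcases mem_insert.1 hx with rfl | hx
    · exact b3 _ (ex_add.of_same (sameZ_canon _))
    · exact mem_singleton.1 hx ▸ b3 _ (ex_sub.of_same (sameZ_canon _))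
  have hR : ∀ x, ¬ Ex Q δ y x → bsz (T.t x) ≠ 0 → pu M 2 * x = x := fun x h e => by
    by_cases h' : SameZ Q M δ x
    exacts [d.reg h', hr x (b4 x h' h ▸ e)]
  refine ⟨T₀, T, a1, b1, ?_, fun C _ w k hw hk => ?_, fun ⟨a, ha, ha', hF⟩ => ?_⟩
  · have s : ∀ τ : ZMod M → Fin n → ℕ, df Q M 2 τ = dv 2 (Q ^ perZ Q M δ) (τ δ) +
        ∑ x ∈ {canon Q M (δ + y), canon Q M (δ - y)}, dv 2 (Q ^ perZ Q M x) (τ x) +
        ∑ x ∈ Rs Q δ y, dv 2 (Q ^ perZ Q M x) (τ x) := fun τ =>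
      d.split (A := Multiplicative ℕ) hδ fun x => dv 2 (Q ^ perZ Q M x) (τ x)
    have v : ∀ x k, dv 2 (Q ^ perZ Q M x) (row n k) = vz 2 (PH (Q ^ perZ Q M x) k) := fun x =>
      (hV _ h1.pow (abs_pow_le h2 (perZ_pos hQ x)) n).1 hn
    have c1 := vz_PH h3 (bsz (t.t δ) - 2)
    rw [Nat.sub_add_cancel hN] at c1
    rw [s, s, a2 δ (sameZ_refl _), b2 δ (sameZ_refl _), v, v,
      sum_congr rfl fun x hx => show _ = vz 2 (Q ^ perZ Q M x - 1) by rw [hS x hx, v, PH, prod_range_one, zero_add, pow_one],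
      sum_congr (s₁ := Rs Q δ y) rfl fun x hx => by
        rw [b4 x (mem_filter.1 hx).2.1 (mem_filter.1 hx).2.2, ← a4 x (mem_filter.1 hx).2.1 (mem_filter.1 hx).2.2]]
    omega
  · have z : ∀ x, ¬ Ex Q δ y x → (w ^ expoZ Q M (perZ Q M x) x) ^ bsz (T.t x) = 1 := fun x h => by
      by_cases e : bsz (T.t x) = 0
      · rw [e, pow_zero]
      · rw [LabB.z_reg hw hk ((torZ_iff _ _).2 dvd_rfl) ((pReg_iff hp _).2 (hR x h e)), one_pow]
    rw [d.split hδ, z δ fun h => d.not_reg h d.hδ, prod_eq_one (s := Rs Q δ y) fun x hx => z x (mem_filter.1 hx).2.2,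
      prod_congr rfl fun x hx => by rw [hS x hx, H531.HT.sum_row' hn, pow_one], p2 C w k hw hk, one_mul, one_mul]
  have c1 : pu M 2 * a = 0 := ((pu_spec hp).2.2.1 a).1 ⟨1, by rwa [pow_one]⟩
  have c0 : 2 * a = 0 := by simpa using ha'
  have c2 : ∀ x, pu M 2 * x = x → bsz (T.t x) = 0 := fun x e => by
    by_contra e'
    by_cases h : Ex Q δ y (x - a)
    · exact d.ne h (by linear_combination -2 * e + 2 * c1 - c0)
    · exact ha (by linear_combination hR _ h (hF x ▸ e') - e + c1)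
  have c3 : bsz (t.t δ) = 2 := by
    have := c2 δ d.hδ
    rw [b2 δ (sameZ_refl _), H531.HT.sum_row' hn] at this
    omega
  have c4 : ∀ x, ¬ SameZ Q M δ x → bsz (t.t x) = 0 := fun x h => not_not.1 fun e =>
    e (b4 x h (fun k => d.not_reg k (hr x e)) ▸ c2 x (hr x e))
  have c5 : vz 2 (Q ^ perZ Q M δ - 1) + vz 2 (Q ^ perZ Q M δ + 1) ≤ 3 := by
    have e : bsz (T.t (δ + y - a)) ≠ 0 := by
      rw [hF, b3 _ ex_add, H531.HT.sum_row' hn]
      exact one_ne_zero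
    rcases d.cases (not_not.1 fun h => e (c2 _ (hR _ h e))) (by linear_combination d.hδ + d.hy - c1) with k | k
    · exact absurd (by linear_combination -k) ha
    · have := (hy 2).1 (by push_cast; linear_combination 2 * k + c0)
      omega
  have c6 : ¬ 2 ∣ perZ Q M δ := fun e => by
    have k := vz_mono (pow_sub_one_ne h2 hf) (pow_dvd Q e)
    have := ar h1 h2
    rw [vz_sq h2] at k
    omega
  refine ⟨fun c => ?_, fun c hc => ?_, ?_⟩
  · by_cases h : SameZ Q M δ c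
    · rw [t_same t.orb h, c3]
    · rw [c4 c h]
      exact zero_le_two
  · rwa [← perZ_of_same hQ (not_not.1 fun h => hc.ne' (c4 c h))]
  · have := vz_odd h1 h2 c6
    rw [up, sum_eq_single_of_mem δ hδ fun x hx e => by
      rw [c4 x fun h => e ((mem_repsZ.1 hx).symm.trans ((canon_eq_of_same hQ h).symm.trans (mem_repsZ.1 hδ)))]
      simp, c3, show (Nat.factorial 2).factorization 2 = 1 from hp.factorization_self, bb]
    omega

end Cfsg.Agent.BZ.A
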