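import Cfsg.Agent.BZ.A.Defs
import Cfsg.Agent.RC.A.Desc
import Cfsg.Agent.H625.PHZ

/-!
# BZ, type A: descent to central quotients (helper78)

* `Desc.down` : a member of the block of an inflation which is trivial on the `p`-elements of the central kernel is inflated
  from the block;
* `boxR`.
-/

set_option autoImplicit false
set_option linter.unusedSectionVars false

namespace Cfsg.Agent.BZ.A

open Cfsg Subgroup Cfsg.Agent.Blocks.Basic Cfsg.Agent.KM.Mu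
open Cfsg.Agent.H644.CentralQuot (infl sameBlock_infl_iff)
open Cfsg.Agent.RC.A.Desc (dn_cen)

namespace Desc

variable {p : ℕ} [hp : Fact p.Prime] {𝔐 : Ideal AlgInt} {X K : Type} [Group X] [Group K] [Finite X]

/-- kernels of order prime to `p` -/
theorem down_reg (hM : IsPModular p 𝔐) {ρ : X →* K} (hρ : Function.Surjective ρ) (hk : ¬ p ∣ Nat.card ρ.ker)
    (χ : IrrCharacter K) {ϑ : IrrCharacter X} (h : ϑ ∈ blockOf 𝔐 fun x => (χ : K → ℂ) (ρ x)) :
    ∃ χ' ∈ blockOf 𝔐 (χ : K → ℂ), (χ' : K → ℂ) 1 = (ϑ : X → ℂ) 1 := by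
  have := hM.2.1.isPrime
  let e := QuotientGroup.quotientKerEquivOfSurjective ρ hρ
  let θ : IrrCharacter X := ⟨_, Characters.Core.isIrr_comp ρ hρ χ.2⟩
  let θ' : IrrCharacter (X ⧸ ρ.ker) := ⟨_, Characters.Core.isIrr_comp e.toMonoidHom e.surjective χ.2⟩
  obtain ⟨c, hc, h1, h2, -⟩ := TO.exists_defl hM (isPBlock_blockOf θ) ρ.ker hk (f := (θ : X → ℂ))
    ⟨_, mem_blockOf_self _, rfl⟩ fun n hn => congrArg (χ : K → ℂ) ((MonoidHom.mem_ker.1 hn).trans (map_one ρ).symm)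
  obtain ⟨f, hf⟩ := h2 ϑ (TO.rd_mem_Fn.2 h)
  obtain ⟨ψ, h3, rfl⟩ := (h1 f).2 (hf ▸ TO.rd_mem_Fn.2 h)
  have h4 : θ' ∈ c := TO.rd_mem_Fn.1 ((h1 θ').2 (TO.rd_mem_Fn (χ := θ).2 (mem_blockOf_self _)))
  have h5 := (H649.irrMap_mem_blkMap (e := e)).2 (isPBlock_eq_blockOf hc h4 ▸ h3)
  rw [H649.blkMap_blockOf] at h5
  refine ⟨H649.irrMap e ψ, by simpa [θ'] using h5, ?_⟩
  rw [hf]
  exact congrArg (ψ : X ⧸ ρ.ker → ℂ) ((map_one e.symm).trans rfl)

/-- **central kernels** -/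
theorem down (hM : IsPModular p 𝔐) {π : X →* K} (hπ : Function.Surjective π) (hk : π.ker ≤ center X)
    (χ : IrrCharacter K) {ϑ : IrrCharacter X} (h : ϑ ∈ blockOf 𝔐 fun x => (χ : K → ℂ) (π x))
    (ht : ∀ z ∈ π.ker, ∀ k : ℕ, z ^ p ^ k = 1 → (ϑ : X → ℂ) z = (ϑ : X → ℂ) 1) :
    ∃ χ' ∈ blockOf 𝔐 (χ : K → ℂ), (χ' : K → ℂ) 1 = (ϑ : X → ℂ) 1 := by
  obtain ⟨P⟩ : Nonempty (Sylow p π.ker) := inferInstance
  have h1 := map_subtype_le (P : Subgroup π.ker)
  have h2 : IsPGroup p ((P : Subgroup π.ker).map π.ker.subtype) := P.2.map _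
  have h3 := card_map_of_injective (K := (P : Subgroup π.ker)) π.ker.subtype_injective
  have h4 := (P : Subgroup π.ker).card_mul_index
  have h5 := P.not_dvd_index
  rw [← h3] at h4
  generalize (P : Subgroup π.ker).map π.ker.subtype = U at h1 h2 h4
  have : U.Normal := ⟨fun n hn g => by rwa [mem_center_iff.1 (hk (h1 hn)) g, mul_inv_cancel_right]⟩
  let ρ : X ⧸ U →* K := QuotientGroup.lift U π h1
  have hρ : Function.Surjective ρ := QuotientGroup.lift_surjective_of_surjective U π hπ h1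
  have h6 := card_ker_mul (QuotientGroup.mk' U) π.ker
  rw [QuotientGroup.ker_mk', inf_eq_right.2 h1, ← h4, Nat.mul_right_inj Nat.card_pos.ne',
    ← QuotientGroup.ker_lift U π h1] at h6
  obtain ⟨θ, rfl⟩ := KM.BK.exists_infl U ϑ fun z hz => by
    obtain ⟨k, h7⟩ := h2 ⟨z, hz⟩
    exact ht z (h1 hz) k (congrArg Subtype.val h7)
  have := Fintype.ofFinite X
  exact down_reg hM hρ (by rw [h6]; exact h5) χ (ϑ := θ)
    ((sameBlock_infl_iff hM (h1.trans hk) h2 ⟨_, Characters.Core.isIrr_comp ρ hρ χ.2⟩ θ).1 h)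

/-- heights zero -/
theorem hz_le [Finite K] (hM : IsPModular p 𝔐) {B : Set (IrrCharacter K)} (hB : IsPBlock 𝔐 B) {D : Subgroup K}
    (hD : IsDefectGroup p 𝔐 B D) (h : KM.BK.HZ p B) {χ : IrrCharacter K} (hχ : χ ∈ B) :
    (charDegree (χ : K → ℂ)).factorization p + (Nat.card D).factorization p ≤ (Nat.card K).factorization p := by
  have h1 := h χ hχ
  have h2 : (charDegree (χ : K → ℂ)).factorization p ≤ _ := KM.BK.nu_le (p := p) χ
  have h3 := Nat.sInf_le (s := (fun ψ : IrrCharacter K => (charDegree (ψ : K → ℂ)).factorization p) '' B) ⟨χ, hχ, rfl⟩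
  rw [S0908.result p 𝔐 hM B hB D hD, hp.out.factorization_pow, Finsupp.single_eq_same]
  unfold blockHeight at h1
  unfold blockDefect
  omega

end Desc

open Desc

/-- **Descent.** -/
theorem boxR : BoxR := by
  intro p hp 𝔐 Γ _ _ Y _ Z hU hC Y' K S _ _ _ _ ι ψ σ hι hY hZ hψ hk hd B D H hz
  subst hY
  have hM := H.hM
  have := hM.2.1.isPrime
  have : Finite Y' := Finite.of_injective ι hι
  let e := MonoidHom.ofInjective hι
  obtain ⟨π, hπ, h1, h2, h0⟩ : ∃ π : ι.range →* K, Function.Surjective π ∧ π.ker ≤ center _ ∧ (∀ u ∈ π.ker, u.1 ∈ Z) ∧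
      p ∣ Nat.card π.ker := by
    refine ⟨ψ.comp e.symm.toMonoidHom, hψ.comp e.symm.surjective, fun x hx => mem_center_iff.2 fun g => e.symm.injective (by
      rw [map_mul, map_mul]
      exact mem_center_iff.1 (hk hx) _), fun u hu => by
        obtain ⟨u, rfl⟩ := e.surjective u
        exact hZ u (hk (by simpa using hu)), ?_⟩
    obtain ⟨y, hy⟩ := exists_prime_orderOf_dvd_card' p hd
    have a1 : ψ y ∈ center K := mem_center_iff.2 fun g => by
      obtain ⟨g, rfl⟩ := hψ g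
      rw [← map_mul, ← map_mul, mem_center_iff.1 y.2 g]
    have a2 : orderOf (ψ y) ∣ p := hy ▸ (orderOf_map_dvd (ψ.comp (center Y').subtype) y)
    have a3 : ψ y = 1 := orderOf_eq_one_iff.1 ((hp.out.eq_one_or_self_of_dvd _ a2).resolve_right fun h =>
      H.zp (h ▸ orderOf_dvd_natCard _ a1))
    have a4 : orderOf (e y) = p := by rw [MulEquiv.orderOf_eq, orderOf_coe, hy]
    exact a4 ▸ orderOf_dvd_natCard _ (by simpa using a3)
  obtain ⟨h3, h4⟩ := dn_cen hM hπ h1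
  obtain ⟨χ, hχ⟩ := isPBlock_nonempty H.hB
  let ϑ : IrrCharacter ι.range := ⟨_, Characters.Core.isIrr_comp π hπ χ.2⟩
  have hb := isPBlock_blockOf (M := 𝔐) ϑ
  obtain ⟨E, hE, rfl⟩ : ∃ E, IsDefectGroup p 𝔐 (blockOf 𝔐 (ϑ : ι.range → ℂ)) E ∧ E.map π = D := by
    obtain ⟨E, hE⟩ := H644.exists_isDefectGroup hM hb
    obtain ⟨x, hx⟩ := TID.Red.conj_defect hM H.hB (isPBlock_eq_blockOf H.hB hχ ▸ h3 χ E hE) H.hD
    obtain ⟨y, rfl⟩ := hπ x
    refine ⟨_, isDefectGroup_conj hE y, ?_⟩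
    rw [← hx, map_map, map_map]
    exact congrArg E.map (MonoidHom.ext fun z => by simp)
  obtain ⟨B', P, hB', hP, h5, h6⟩ := KM.up_norm hM ι.range hb hE
  obtain ⟨χ', h7, h8⟩ := h6 ϑ (mem_blockOf_self ϑ)
  have hc : Nat.card (P ⊓ ι.range : Subgroup Γ) = Nat.card E := h5 ▸ card_map_of_injective (subtype_injective _)
  have a1 := fac_mul (p := p) (card_ker_mul π E) Nat.card_pos.ne'
  have a2 := fac_mul (p := p) (card_ker_mul π ⊤) Nat.card_pos.ne'
  rw [top_inf_eq, map_top_of_surjective π hπ, card_top, card_top] at a2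
  have a3 := h4 ϑ E hE
  have a4 := fac_mono (p := p) (inf_le_right : E ⊓ π.ker ≤ π.ker)
  have a5 := (hp.out.dvd_iff_one_le_factorization Nat.card_pos.ne').1 h0
  have a6 := (hp.out.pow_dvd_iff_le_factorization Nat.card_pos.ne').1 H.cube_dvd
  obtain ⟨ξ, h9, h10, h11⟩ := hU B' P hB' hP (fun hA => H.nab ⟨⟨by
      rintro ⟨_, a, ha, rfl⟩ ⟨_, b, hb, rfl⟩
      have a1 : ∀ a ∈ E, a.1 ∈ P := fun a ha => (h5.ge ⟨a, ha, rfl⟩).1
      have a3 := congrArg Subtype.val (hA.is_comm.comm ⟨_, a1 a ha⟩ ⟨_, a1 b hb⟩)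
      have a2 : a * b = b * a := Subtype.ext a3
      exact Subtype.ext ((map_mul π a b).symm.trans (a2 ▸ map_mul π b a))⟩⟩) (by rw [hc]; omega)
  have := Fintype.ofFinite Γ
  have := Fintype.ofFinite ι.range
  obtain ⟨η, h12⟩ := TO.Cov.exists_under ι.range ξ.2
  have h13 := h11 η ((TID.Red.ov_subtype_iff _ _ _).2 h12)
  obtain ⟨g, θ, h14, h15⟩ := S0964.result p 𝔐 hM ι.range B' hB' _ hb χ' h7 ϑ (mem_blockOf_self ϑ)
    ((TID.Red.ov_subtype_iff _ _ _).1 h8) ξ h9 η h12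
  have h16 : ∀ z : ι.range, z.1 ∈ center Γ → (η : ι.range → ℂ) z = (θ : ι.range → ℂ) z := fun z hz => by
    rw [h15]
    exact congrArg (θ : ι.range → ℂ) (Subtype.ext (mul_inv_eq_of_eq_mul (mem_center_iff.1 hz g)))
  obtain ⟨χ₁, h17, h18⟩ := down hM hπ h1 χ h14 fun z hz k h => by
    have b1 := H625.PHZ.central_eq ι.range ξ.2 η.2 h12 (hC _ (h2 z hz)) z.2
    rw [h10 z (h2 z hz) k (congrArg Subtype.val h), mul_right_inj' (Characters.Core.isIrr_apply_one_ne_zero ξ.2)] at b1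
    rw [← h16 z (hC _ (h2 z hz)), ← h16 1 (one_mem _), b1]
  have a7 := hz_le hM H.hB H.hD hz (isPBlock_eq_blockOf H.hB hχ ▸ h17)
  have a8 : charDegree (χ₁ : K → ℂ) = charDegree (η : ι.range → ℂ) := by
    rw [charDegree, charDegree, h18, h16 1 (one_mem _)]
  rw [hc, ← a8] at h13
  omega

end Cfsg.Agent.BZ.A
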