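import Cfsg.Agent.BZ.A.Defs2
import Cfsg.Agent.RC.A.Lab

/-!
# BZ, type A, the prime `2`: the upper bound in small families (helper35)
-/

set_option autoImplicit false

namespace Cfsg.Agent.BZ.A

open Cfsg
open Cfsg.Agent.H577.GLB.Std Cfsg.Agent.H614.GLn.RSt
open Cfsg.Agent.H794.EM (vz vz_mul)
open Cfsg.Agent.H505.S4536.DC (pu pReg_iff kq kq_mul kq_pos sfun_eq Sf_eq_zero sum_kq)
open Cfsg.Agent.RC.A (bb)

namespace H2

theorem two_le {Q : ℤ} (hQ : 2 ≤ |Q|) {k : ℕ} (hk : 0 < k) : 2 ≤ |Q ^ k| := by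
  rw [abs_pow]
  exact hQ.trans (le_self_pow₀ (by linarith) hk.ne')

/-- one orbit -/
theorem term (hV : BoxV) {T : ℤ} (ho : Odd T) (h2 : 2 ≤ |T|) {κ m : ℕ} (hκ : 0 < κ) {β : Fin m → ℕ} (hβ : StrictMono β)
    (h : κ * bsz β ≤ 2) : dv 2 (T ^ κ) β ≤ κ * bsz β * vz 2 (T - 1) + κ * bsz β / 2 * vz 2 (T + 1) := by
  have h1 := ((hV (T ^ κ) ho.pow (two_le h2 hκ) m).2 β hβ).2
  have f0 : (Nat.factorial 0).factorization 2 = 0 := by simp
  have f1 : (Nat.factorial 1).factorization 2 = 0 := by simp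
  have f2 : (Nat.factorial 2).factorization 2 = 1 := Nat.prime_two.factorization_self
  generalize bsz β = s at h h1 ⊢
  rcases s with _ | s
  · rw [f0] at h1
    omega
  have h3 : κ ≤ 2 := (Nat.le_mul_of_pos_right κ s.succ_pos).trans h
  interval_cases κ
  · rw [pow_one] at h1 ⊢
    have h4 : s ≤ 1 := by omega
    interval_cases s
    · rw [zero_add, f1] at h1
      omega
    · rw [show 1 + 1 = 2 from rfl, f2] at h1
      omega
  · obtain rfl : s = 0 := by omega
    have h4 : T - 1 ≠ 0 := fun e => by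
      rw [sub_eq_zero.1 e] at h2
      exact absurd h2 (by decide)
    have h5 : T + 1 ≠ 0 := fun e => by
      rw [eq_neg_of_add_eq_zero_left e] at h2
      exact absurd h2 (by decide)
    rw [zero_add, f1, show T ^ 2 - 1 = (T - 1) * (T + 1) by ring, vz_mul h4 h5] at h1
    omega

open Classical in
theorem fib {Q : ℤ} {M p : ℕ} [NeZero M] (hp : p.Prime) (hQ : IsUnit (Q : ZMod M)) {m n : ℕ} (t T : LabZ Q M m n)
    (ht : POnly M p t.t) (hT : Fam M p T.t t.t) {δ : ZMod M} (hδ : δ ∈ repsZ Q M) :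
    ∑ c ∈ (repsZ Q M).filter (fun c => canon Q M (pu M p * c) = δ), kq Q M p c * bsz (T.t c) = bsz (t.t δ) := by
  rw [sum_kq hQ T.orb (mem_repsZ.1 hδ)]
  by_cases h : PReg M p δ
  · rw [← sfun_eq hp T.t h, hT δ h]
  · rw [ht δ h, Sf_eq_zero hp T.t fun h1 => h ((pReg_iff hp δ).2 h1)]

end H2

/-- **The upper bound.** -/
theorem boxH2 (hV : BoxV) : BoxH2 := by
  intro Q M _ n ho h2 hQ t T ht hs hT
  classical
  unfold df up
  rw [← Finset.sum_fiberwise_of_maps_to (g := fun c => canon Q M (pu M 2 * c)) (t := repsZ Q M)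
    fun c _ => canon_mem_repsZ hQ _]
  refine Finset.sum_le_sum fun δ hδ => ?_
  have h1 := H2.fib Nat.prime_two hQ t T ht hT hδ
  have h3 := hs δ
  generalize hS : (repsZ Q M).filter (fun c => canon Q M (pu M 2 * c) = δ) = S at h1
  have h4 : ∀ c ∈ S, dv 2 (Q ^ perZ Q M c) (T.t c) ≤ kq Q M 2 c * bsz (T.t c) * bb Q M 2 δ +
      kq Q M 2 c * bsz (T.t c) / 2 * vz 2 (Q ^ perZ Q M δ + 1) := fun c hc => by
    have e1 : canon Q M (pu M 2 * c) = δ := by
      rw [← hS] at hc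
      exact (Finset.mem_filter.1 hc).2
    have e2 : perZ Q M c = perZ Q M δ * kq Q M 2 c := by
      rw [← e1, ← perZ_of_same hQ (sameZ_canon (pu M 2 * c)), mul_comm, kq_mul]
    rw [e2, pow_mul]
    refine H2.term hV ho.pow (H2.two_le h2 (perZ_pos hQ δ)) (kq_pos hQ c) (T.mono c) ?_
    exact ((Finset.single_le_sum (f := fun c => kq Q M 2 c * bsz (T.t c)) (fun _ _ => Nat.zero_le _) hc).trans h1.le).trans h3
  refine (Finset.sum_le_sum h4).trans ?_
  rw [Finset.sum_add_distrib, ← Finset.sum_mul, ← Finset.sum_mul, h1]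
  refine Nat.add_le_add_left (Nat.mul_le_mul_right _ ?_) _
  have h5 : 2 * ∑ c ∈ S, kq Q M 2 c * bsz (T.t c) / 2 ≤ bsz (t.t δ) := by
    rw [← h1, Finset.mul_sum]
    exact Finset.sum_le_sum fun c _ => Nat.mul_div_le _ _
  have f2 : (Nat.factorial 2).factorization 2 = 1 := Nat.prime_two.factorization_self
  generalize bsz (t.t δ) = N at h3 h5
  interval_cases N
  · omega
  · omega
  · omega

end Cfsg.Agent.BZ.A
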