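import Cfsg.Agent.RC.A.Amb
import Cfsg.Agent.BZ.Cov

/-!
# BZ, type A, odd primes dividing `q ∓ 1` (helper65): the boxes

* `Cen`, `Fix` : properties of labels; `Ht0`, `Ht` : members of positive height which are trivial on the scalars;
* `BoxL` (the label), `BoxZ` (central characters), `BoxW` (labels which no twist fixes), `BoxR` (descent), `BoxU` (the towers);
* `GPsl`, `GPsu` : the families.
-/

set_option autoImplicit false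

namespace Cfsg.Agent.BZ.A

open Cfsg
open Cfsg.Agent.H577.GLB.Std Cfsg.Agent.H614.GLn.RSt Cfsg.Agent.H615.GU Cfsg.Agent.H623.GU Cfsg.Agent.H112.GLB
open Cfsg.Agent.RC.A (bb hi Amb Cell)
open Cfsg.Agent.TID.Red (Ov)

/-- the central character of the label is trivial on the scalars of `p`-power order -/
def Cen (Q : ℤ) (M p : ℕ) [NeZero M] {m : ℕ} (t : ZMod M → Fin m → ℕ) : Prop :=
  ∀ (C : Type) [CommGroup C] (w : C) (k : ℕ), w ^ (Q - 1) = 1 → w ^ p ^ k = 1 →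
    ∏ c ∈ repsZ Q M, (w ^ expoZ Q M (perZ Q M c) c) ^ bsz (t c) = 1

/-- the multiplicities are fixed by a translation of order `p` -/
def Fix (M p : ℕ) {m : ℕ} (t : ZMod M → Fin m → ℕ) : Prop :=
  ∃ a : ZMod M, a ≠ 0 ∧ (p : ZMod M) * a = 0 ∧ ∀ c, bsz (t (c - a)) = bsz (t c)

/-- a member of positive height which is trivial on the `p`-elements of `Z` -/
def Ht0 (p : ℕ) (𝔐 : Ideal AlgInt) {Γ : Type} [Group Γ] (Z : Set Γ) : Prop :=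
  ∀ (B : Set (IrrCharacter Γ)) (P : Subgroup Γ), IsPBlock 𝔐 B → IsDefectGroup p 𝔐 B P → ¬ IsMulCommutative P →
    ∃ χ ∈ B, (∀ z ∈ Z, ∀ k : ℕ, z ^ p ^ k = 1 → (χ : Γ → ℂ) z = (χ : Γ → ℂ) 1) ∧
      (Nat.card Γ).factorization p < (charDegree (χ : Γ → ℂ)).factorization p + (Nat.card P).factorization p

/-- the same for the constituents on `Y` -/
def Ht (p : ℕ) (𝔐 : Ideal AlgInt) {Γ : Type} [Group Γ] [Finite Γ] (Y : Subgroup Γ) (Z : Set Γ) : Prop :=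
  ∀ (B : Set (IrrCharacter Γ)) (P : Subgroup Γ), IsPBlock 𝔐 B → IsDefectGroup p 𝔐 B P → ¬ IsMulCommutative P →
    4 ≤ (Nat.card (P ⊓ Y : Subgroup Γ)).factorization p →
    ∃ χ ∈ B, (∀ z ∈ Z, ∀ k : ℕ, z ^ p ^ k = 1 → (χ : Γ → ℂ) z = (χ : Γ → ℂ) 1) ∧
      ∀ ϑ : IrrCharacter Y, Ov Y.subtype (χ : Γ → ℂ) (ϑ : Y → ℂ) → (Nat.card Y).factorization p <
        (charDegree (ϑ : Y → ℂ)).factorization p + (Nat.card (P ⊓ Y : Subgroup Γ)).factorization p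

/-- **The label.** -/
def BoxL : Prop :=
  ∀ (Q : ℤ) (M : ℕ) [NeZero M] (p n : ℕ), p.Prime → p ≠ 2 → (p : ℤ) ∣ Q - 1 → 2 ≤ |Q| → IsUnit (Q : ZMod M) →
    (∀ k, 0 < k → k ≤ n → Q ^ k - 1 ∣ (M : ℤ)) → ∀ t : LabZ Q M n n, POnly M p t.t → ∀ δ ∈ repsZ Q M, p ≤ bsz (t.t δ) →
    ∃ T : LabZ Q M n n, (∀ δ', PReg M p δ' → sfun M p T.t δ' = bsz (t.t δ')) ∧ hi Q M p T.t < hi Q M p t.t ∧
      Cen Q M p T.t ∧ (Fix M p T.t → hi Q M p t.t ≤ 4 ∧ bb Q M p δ ≤ 1)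

/-- **Central characters.** -/
def BoxZ : Prop :=
  ∀ (F K : Type) [Field F] [Field K] [Algebra F K] (θ : K →*₀ ℂ) (Q : ℤ) (M : ℕ) [NeZero M] (N p : ℕ)
    (G : ℕ → Type) [∀ n, Group (G n)] [∀ n, Finite (G n)] (A : Amb F K θ Q M N p G) (n : ℕ) (hn : n ≤ N), 0 < n →
    ∀ (χ : IrrCharacter (G n)) (T : LabZ Q M n n), (A.t.R n hn).IsLb χ T → Cen Q M p T.t →
    ∀ z ∈ A.Z n, ∀ k : ℕ, z ^ p ^ k = 1 → (χ : G n → ℂ) z = (χ : G n → ℂ) 1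

/-- **No twist.** -/
def BoxW : Prop :=
  ∀ (F K : Type) [Field F] [Field K] [Algebra F K] (θ : K →*₀ ℂ) (Q : ℤ) (M : ℕ) [NeZero M] (N p : ℕ)
    (G : ℕ → Type) [∀ n, Group (G n)] [∀ n, Finite (G n)] (A : Amb F K θ Q M N p G), p.Prime → (p : ℤ) ∣ Q - 1 →
    ∀ (n : ℕ) (hn : n ≤ N), 0 < n → ∀ (χ : IrrCharacter (G n)) (T : LabZ Q M n n), (A.t.R n hn).IsLb χ T → ¬ Fix M p T.t →
    ∀ ϑ : IrrCharacter (A.d n).ker, Ov (A.d n).ker.subtype (χ : G n → ℂ) (ϑ : (A.d n).ker → ℂ) →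
      (charDegree (χ : G n → ℂ)).factorization p ≤ (charDegree (ϑ : (A.d n).ker → ℂ)).factorization p

/-- **Descent.** -/
def BoxR : Prop :=
  ∀ (p : ℕ) [Fact p.Prime] (𝔐 : Ideal AlgInt) (Γ : Type) [Group Γ] [Finite Γ] (Y : Subgroup Γ) [Y.Normal] (Z : Set Γ),
    Ht p 𝔐 Y Z → (∀ z ∈ Z, z ∈ Subgroup.center Γ) →
    ∀ (Y' K S : Type) [Group Y'] [Group K] [Finite K] [Group S] (ι : Y' →* Γ) (ψ : Y' →* K) (σ : K →* S),
    Function.Injective ι → ι.range = Y → (∀ y ∈ Subgroup.center Y', ι y ∈ Z) → Function.Surjective ψ →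
    ψ.ker ≤ Subgroup.center Y' → p ∣ Nat.card (Subgroup.center Y') →
    ∀ (B : Set (IrrCharacter K)) (D : Subgroup K), Hyp p 𝔐 B D σ → ¬ KM.BK.HZ p B

/-- **The towers.** -/
def BoxU : Prop :=
  ∀ (F K : Type) [Field F] [Field K] [Algebra F K] (θ : K →*₀ ℂ) (Q : ℤ) (M : ℕ) [NeZero M] (N p : ℕ)
    (G : ℕ → Type) [∀ n, Group (G n)] [∀ n, Finite (G n)] (A : Amb F K θ Q M N p G) (𝔐 : Ideal AlgInt),
    IsPModular p 𝔐 → p ≠ 2 → (p : ℤ) ∣ Q - 1 → (∀ δ : ZMod M, PReg M p δ → perZ Q M δ ≤ N → Nonempty (Cell A 𝔐 δ)) →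
    ∀ n, 0 < n → n ≤ N → Ht0 p 𝔐 (A.Z n) ∧ Ht p 𝔐 (A.d n).ker (A.Z n)

/-- the linear groups with `p` dividing the order of the centre -/
def GPsl : Prd := fun p S _ => ∃ (F : Type) (_ : Field F) (_ : Fintype F) (n : ℕ), p ≠ 2 ∧ p ∣ Nat.gcd n (Fintype.card F - 1) ∧
  2 ≤ n ∧ (n = 2 → 4 ≤ Fintype.card F) ∧ Nonempty (S ≃* Matrix.ProjectiveSpecialLinearGroup (Fin n) F)

/-- the unitary groups with `p` dividing the order of the centre -/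
def GPsu : Prd := fun p S _ => ∃ (F : Type) (_ : Field F) (_ : Fintype F) (n q : ℕ), p ≠ 2 ∧ p ∣ Nat.gcd n (q + 1) ∧
  Fintype.card F = q ^ 2 ∧ 3 ≤ n ∧ ¬ (n = 3 ∧ q = 2) ∧ Nonempty (S ≃* PSU n F q)

end Cfsg.Agent.BZ.A
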