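import Cfsg.Agent.BZ.A.Defs
import Cfsg.Agent.LV.A.Tow

/-!
# BZ, type A, the prime `2` (helper65): the boxes

* `dv`, `df` : the defect of a label; `up` : an upper bound; `Fam` : families; `LC` : cells without geometry;
* `BoxV`, `BoxD2` (degrees), `BoxH2` (upper bound), `BoxL2` (the labels), `BoxC2` (cells), `BoxU2` (the towers).
-/

set_option autoImplicit false

namespace Cfsg.Agent.BZ.A

open Cfsg
open Cfsg.Agent.H577.GLB.Std Cfsg.Agent.H614.GLn.RSt Cfsg.Agent.H615.GU Cfsg.Agent.H623.GU Cfsg.Agent.H112.GLB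
open Cfsg.Agent.H794.EM (vz PH tyOne)
open Cfsg.Agent.H794.XZ (row)
open Cfsg.Agent.LV.A (PB VD)
open Cfsg.Agent.RC.A (bb lo Amb)
open scoped MatrixGroups

/-- the defect of one orbit -/
noncomputable def dv (p : ℕ) (T : ℤ) {m : ℕ} (β : Fin m → ℕ) : ℕ := vz p (PB T β) - vz p (VD T β)

/-- the defect of a label -/
noncomputable def df (Q : ℤ) (M p : ℕ) [NeZero M] {m : ℕ} (t : ZMod M → Fin m → ℕ) : ℕ :=
  ∑ c ∈ repsZ Q M, dv p (Q ^ perZ Q M c) (t c)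

/-- an upper bound for the defects in a family with small multiplicities -/
noncomputable def up (Q : ℤ) (M : ℕ) [NeZero M] {m : ℕ} (t : ZMod M → Fin m → ℕ) : ℕ :=
  ∑ c ∈ repsZ Q M, (bsz (t c) * bb Q M 2 c + (bsz (t c)).factorial.factorization 2 * vz 2 (Q ^ perZ Q M c + 1))

/-- `T` lies in the family of the `p'`-label `t` -/
def Fam (M p : ℕ) [NeZero M] {m : ℕ} (T t : ZMod M → Fin m → ℕ) : Prop := ∀ δ, PReg M p δ → sfun M p T δ = bsz (t δ)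

section

variable {F K : Type} [Field F] [Field K] [Algebra F K] {θ : K →*₀ ℂ} {Q : ℤ} {M : ℕ} [NeZero M] {N p : ℕ}
  {G : ℕ → Type} [∀ n, Group (G n)] [∀ n, Finite (G n)]

/-- the factor of a centralizer which belongs to the `p'`-label `δ` -/
structure LC (A : Amb F K θ Q M N p G) (δ : ZMod M) where
  /-- the group, `GL_k(q ^ f)` or `GU_k(q ^ f)` -/
  X : Type
  [grp : Group X]
  [fin : Finite X]
  /-- the degree -/
  f : ℕ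
  /-- the dimension -/
  k : ℕ
  /-- the realization -/
  R₁ : Rz (Q ^ f) M p k X
  /-- the cuspidal character -/
  θ₀ : IrrCharacter X
  /-- the scalars of `p`-power order -/
  Zc : Subgroup X
  fpos : 0 < f
  kpos : 0 < k
  per : perZ Q M δ = f * k
  per' : perZ (Q ^ f) M δ = k
  gr : Gr R₁
  cusp : ∃ s' : ℤˣ, R₁.om (rv (Q ^ f) M k δ) = ((s' : ℤ) : ℂ) • (θ₀ : X → ℂ)
  cen : Zc ≤ Subgroup.center X
  card : Nat.card Zc = p ^ bb Q M p δ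
  step : ∀ (l n : ℕ) (hl : l ≤ N) (hn : n ≤ N), l + f * k = n → ∃ (j : X × G l →* G n) (u : G n), Function.Injective j ∧
    (∃ a : ℕ, orderOf u = p ^ a) ∧ j.range = Subgroup.centralizer ({u} : Set (G n)) ∧ Val (A.t.R n hn) R₁ (A.t.R l hl) j u ∧
    (¬ p ∣ perZ Q M δ → ∃ z ∈ Zc, orderOf (A.d n (j (z, 1))) = p ^ vz p (Q - 1))

attribute [instance] LC.grp LC.fin

end

/-- **One orbit.** -/
def BoxV : Prop :=
  ∀ T : ℤ, Odd T → 2 ≤ |T| → ∀ m : ℕ, (0 < m → ∀ k, dv 2 T (row m k) = vz 2 (PH T k)) ∧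
    ∀ β : Fin m → ℕ, StrictMono β → vz 2 (VD T β) ≤ vz 2 (PB T β) ∧
      dv 2 T β ≤ bsz β * vz 2 (T - 1) + (bsz β).factorial.factorization 2 * vz 2 (T + 1)

/-- **Degrees.** -/
def BoxD2 : Prop :=
  ∀ (K : Type) [Field K] (θ : K →*₀ ℂ) (Q : ℤ) (M : ℕ) [NeZero M] (N : ℕ) (G : ℕ → Type) [∀ n, Group (G n)]
    [∀ n, Finite (G n)], Odd Q → CtxQ θ Q M N → ∀ (t : Tow θ Q M N 2 G) (n : ℕ) (hn : n ≤ N), (t.T n hn).typ 1 = tyOne Q n →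
    ∀ (m : ℕ) (χ : IrrCharacter (G n)) (T : LabZ Q M m n), (t.R n hn).IsLb χ T →
      (charDegree (χ : G n → ℂ)).factorization 2 + df Q M 2 T.t = vz 2 (PH Q n)

/-- **The upper bound.** -/
def BoxH2 : Prop :=
  ∀ (Q : ℤ) (M : ℕ) [NeZero M] (n : ℕ), Odd Q → 2 ≤ |Q| → IsUnit (Q : ZMod M) → ∀ t T : LabZ Q M n n, POnly M 2 t.t →
    (∀ δ, bsz (t.t δ) ≤ 2) → Fam M 2 T.t t.t → df Q M 2 T.t ≤ up Q M t.t

/-- **The labels.** -/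
def BoxL2 : Prop :=
  ∀ (Q : ℤ) (M : ℕ) [NeZero M] (n : ℕ), Odd Q → 2 ≤ |Q| → IsUnit (Q : ZMod M) →
    (∀ k, 0 < k → k ≤ n → Q ^ k - 1 ∣ (M : ℤ)) → ∀ t : LabZ Q M n n, POnly M 2 t.t → ∀ δ ∈ repsZ Q M, 2 ≤ bsz (t.t δ) →
    ∃ T₀ T : LabZ Q M n n, Fam M 2 T₀.t t.t ∧ Fam M 2 T.t t.t ∧ df Q M 2 T.t < df Q M 2 T₀.t ∧ Cen Q M 2 T.t ∧
      (Fix M 2 T.t → (∀ c, bsz (t.t c) ≤ 2) ∧ (∀ c, 0 < bsz (t.t c) → ¬ 2 ∣ perZ Q M c) ∧ up Q M t.t ≤ vz 2 (Q - 1) + 3)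

/-- **The cells.** -/
def BoxC2 : Prop :=
  ∀ (F K : Type) [Field F] [Fintype F] [Field K] [Algebra F K] (θ : K →*₀ ℂ) (Q : ℤ) (M : ℕ) [NeZero M] (N : ℕ),
    Odd Q → ∀ δ : ZMod M, PReg M 2 δ → perZ Q M δ ≤ N →
    (Q = Fintype.card F → ∀ A : Amb F K θ Q M N 2 (fun n => GL (Fin n) F), (∀ n, A.ρ n = MonoidHom.id _) → Nonempty (LC A δ)) ∧
    ∀ q : ℕ, Fintype.card F = q ^ 2 → Q = -(q : ℤ) → ∀ A : Amb F K θ Q M N 2 (fun n => GU n F q),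
      (∀ n, A.ρ n = (GU n F q).subtype) → Nonempty (LC A δ)

/-- **The towers.** -/
def BoxU2 : Prop :=
  ∀ (F K : Type) [Field F] [Field K] [Algebra F K] (θ : K →*₀ ℂ) (Q : ℤ) (M : ℕ) [NeZero M] (N : ℕ)
    (G : ℕ → Type) [∀ n, Group (G n)] [∀ n, Finite (G n)] (A : Amb F K θ Q M N 2 G) (𝔐 : Ideal AlgInt),
    IsPModular 2 𝔐 → Odd Q → (∀ δ : ZMod M, PReg M 2 δ → perZ Q M δ ≤ N → Nonempty (LC A δ)) →
    ∀ n, 0 < n → n ≤ N → Ht0 2 𝔐 (A.Z n) ∧ Ht 2 𝔐 (A.d n).ker (A.Z n)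

end Cfsg.Agent.BZ.A
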